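import Cfsg.Agent.SelfCentFour.Core

/-!
Generalities: conjugation orbits under a subgroup, and Sylow arguments inside a subgroup.
-/

set_option autoImplicit false
set_option linter.unusedSectionVars false
set_option linter.style.haveILetI false

namespace Cfsg.Lib.SelfCentFour

open Subgroup

universe u

variable {G : Type u} [Group G] [Finite G]

/-- The orbit of `z` under conjugation by the elements of `H`. -/
theorem card_orbit (H : Subgroup G) (z : G) :
    Nat.card {g : G // ∃ h ∈ H, g = h * z * h⁻¹} * Nat.card ↥(H ⊓ centralizer ({z} : Set G)) =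
      Nat.card H := by
  set K := (H ⊓ centralizer ({z} : Set G)).subgroupOf H with hK
  rw [← Nat.card_congr (subgroupOfEquivOfLe (inf_le_left : H ⊓ centralizer ({z} : Set G) ≤ H)).toEquiv,
    ← hK, ← K.index_mul_card]
  congr 1
  refine (Nat.card_congr (Equiv.ofBijective (fun q : H ⧸ K => Quotient.liftOn' q
    (fun h => (⟨(h : G) * z * (h : G)⁻¹, h, h.2, rfl⟩ : {g : G // ∃ h ∈ H, g = h * z * h⁻¹}))
    ?_) ⟨?_, ?_⟩)).symm
  · intro h h' hr
    rw [QuotientGroup.leftRel_apply] at hr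
    obtain ⟨-, h2⟩ := mem_subgroupOf.1 hr
    have h3 := mem_centralizer_singleton_iff.1 h2
    apply Subtype.ext
    show (h : G) * z * (h : G)⁻¹ = (h' : G) * z * (h' : G)⁻¹
    simp only [Subgroup.coe_mul, Subgroup.coe_inv] at h3
    calc (h : G) * z * (h : G)⁻¹ = (h : G) * (z * ((h : G)⁻¹ * h')) * (h' : G)⁻¹ := by group
      _ = (h : G) * (((h : G)⁻¹ * h') * z) * (h' : G)⁻¹ := by rw [h3]
      _ = _ := by group
  · intro q q'
    induction q using Quotient.inductionOn' with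
    | h h =>
      induction q' using Quotient.inductionOn' with
      | h h' =>
        intro e
        have e' : (h : G) * z * (h : G)⁻¹ = (h' : G) * z * (h' : G)⁻¹ := congrArg Subtype.val e
        refine Quotient.sound' ?_
        rw [QuotientGroup.leftRel_apply]
        refine mem_subgroupOf.2 ⟨SetLike.coe_mem (h⁻¹ * h'), mem_centralizer_singleton_iff.2 ?_⟩
        simp only [Subgroup.coe_mul, Subgroup.coe_inv]
        calc (h : G)⁻¹ * h' * z = (h : G)⁻¹ * ((h' : G) * z * (h' : G)⁻¹) * h' := by group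
          _ = (h : G)⁻¹ * ((h : G) * z * (h : G)⁻¹) * h' := by rw [e']
          _ = z * ((h : G)⁻¹ * h') := by group
  · rintro ⟨g, h, hh, rfl⟩
    exact ⟨QuotientGroup.mk ⟨h, hh⟩, rfl⟩

/-- A 2-subgroup is conjugate inside `H` into a subgroup of maximal 2-power order. -/
theorem exists_conj_in {H V : Subgroup G} (hVH : V ≤ H) {k : ℕ} (hV : Nat.card V = 2 ^ k)
    (hH : ¬ 2 ^ (k + 1) ∣ Nat.card H) {X : Subgroup G} (hX : IsPGroup 2 X) (hXH : X ≤ H) :
    ∃ c ∈ H, ∀ x ∈ X, c * x * c⁻¹ ∈ V := by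
  haveI : Fact (Nat.Prime 2) := ⟨Nat.prime_two⟩
  have hf : (Nat.card H).factorization 2 = k := by
    refine le_antisymm ?_ ?_
    · by_contra hcon
      exact hH ((Nat.prime_two.pow_dvd_iff_le_factorization Nat.card_pos.ne').2 (by omega))
    · exact (Nat.prime_two.pow_dvd_iff_le_factorization Nat.card_pos.ne').1 (hV ▸ card_dvd_of_le hVH)
  let P : Sylow 2 H := Sylow.ofCard (V.subgroupOf H)
    (by rw [Nat.card_congr (subgroupOfEquivOfLe hVH).toEquiv, hV, hf])
  obtain ⟨R, hR⟩ := (hX.of_equiv (subgroupOfEquivOfLe hXH).symm).exists_le_sylow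
  obtain ⟨c, hc⟩ := MulAction.exists_smul_eq H R P
  refine ⟨c, c.2, fun x hx => ?_⟩
  have h : c * ⟨x, hXH hx⟩ * c⁻¹ ∈ (P : Subgroup H) := by
    rw [← hc, Sylow.coe_subgroup_smul]
    exact ⟨⟨x, hXH hx⟩, hR hx, rfl⟩
  exact mem_subgroupOf.1 h

/-- A group whose order is twice an odd number. -/
theorem exists_half (H : Subgroup G) (h4 : ¬ 4 ∣ Nat.card H) {r : G} (hr : r ∈ H)
    (hr2 : orderOf r = 2) :
    ∃ L : Subgroup G, (∀ x, x ∈ L ↔ x ∈ H ∧ ¬ 2 ∣ orderOf x) ∧ Nat.card H = 2 * Nat.card L ∧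
      ∀ x ∈ H, ∃ l ∈ L, x = l ∨ x = l * r := by
  haveI : Fact (Nat.Prime 2) := ⟨Nat.prime_two⟩
  haveI := Fintype.ofFinite G
  have hrc : Nat.card (zpowers r) = 2 := by rw [Nat.card_zpowers, hr2]
  have hf : (Nat.card H).factorization 2 = 1 := by
    refine le_antisymm ?_ ?_
    · by_contra hcon
      exact h4 ((Nat.prime_two.pow_dvd_iff_le_factorization Nat.card_pos.ne').2
        (show 2 ≤ _ by omega))
    · refine (Nat.prime_two.pow_dvd_iff_le_factorization Nat.card_pos.ne').1 ?_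
      rw [pow_one, ← hrc]
      exact card_dvd_of_le (zpowers_le.2 hr)
  obtain ⟨P⟩ : Nonempty (Sylow 2 H) := inferInstance
  haveI : IsCyclic (P : Subgroup H) := isCyclic_of_prime_card (p := 2)
    (by rw [P.card_eq_multiplicity, hf, pow_one])
  obtain ⟨L, hL, hc, hd⟩ := Cfsg.Lib.Dihedral.exists_oddPart H
    (Cfsg.Lib.TwoFusion.hasNormalTwoComplement_of_cyclic P)
  rw [hf, pow_one] at hc
  refine ⟨L, hL, hc, fun x hx => ?_⟩
  obtain ⟨l, hl, z, hz, rfl⟩ := hd (zpowers r) (zpowers_le.2 hr) (IsPGroup.of_card (n := 1)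
    (by rw [hrc, pow_one])) (by rw [hrc, hf, pow_one]) x hx
  refine ⟨l, hl, ?_⟩
  obtain ⟨i, rfl⟩ := mem_zpowers_iff.1 hz
  rw [zpow_mod_orderOf r i |>.symm, hr2]
  rcases Int.emod_two_eq_zero_or_one i with e | e <;> simp [e]

theorem card_inverted_conj {L : Subgroup G} {r r' : G} (h : r = r') :
    Nat.card (Cfsg.Lib.Dihedral.inverted L r) = Nat.card (Cfsg.Lib.Dihedral.inverted L r') := by
  rw [h]

/-- An element of odd order whose square lies in a subgroup lies in it. -/
theorem mem_of_sq_mem {L : Subgroup G} {x : G} (hx : Odd (orderOf x)) (h : x * x ∈ L) : x ∈ L := by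
  obtain ⟨k, hk⟩ := hx
  have e : x = (x * x) ^ (k + 1) := by
    rw [← pow_two, ← pow_mul, show 2 * (k + 1) = orderOf x + 1 by omega, pow_succ, pow_orderOf_eq_one,
      one_mul]
  rw [e]
  exact pow_mem h _

/-- The involution in the cyclic group of a product of two involutions of even order. -/
theorem exists_central_involution {i j : G} (hi : i * i = 1) (hj : j * j = 1)
    (he : Even (orderOf (i * j))) :
    ∃ z : G, orderOf z = 2 ∧ z ∈ zpowers (i * j) ∧ i * z = z * i ∧ j * z = z * j ∧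
      ((i * j) * (i * j) = 1 → z = i * j) := by
  set e := i * j with hed
  obtain ⟨k, hk⟩ := he
  have hk0 : 0 < k := by have := orderOf_pos e; omega
  have hz2 : e ^ k * e ^ k = 1 := by rw [← pow_add, ← hk, pow_orderOf_eq_one]
  have hz1 : e ^ k ≠ 1 := pow_ne_one_of_lt_orderOf hk0.ne' (by omega)
  have hzo := two_of_sq hz2 hz1
  have hzi : (e ^ k)⁻¹ = e ^ k := inv_eq_of_mul_eq_one_right hz2
  have hii : i⁻¹ = i := inv_eq_of_mul_eq_one_right hi
  have hji : j⁻¹ = j := inv_eq_of_mul_eq_one_right hj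
  have key : ∀ r : G, r * e * r⁻¹ = e⁻¹ → r * e ^ k = e ^ k * r := by
    intro r hr
    refine mul_inv_eq_iff_eq_mul.1 ?_
    rw [← conj_pow, hr, inv_pow, hzi]
  have hei : i * e * i⁻¹ = e⁻¹ := by
    rw [hed, mul_inv_rev, hii, hji, ← mul_assoc i i j, hi, one_mul]
  have hej : j * e * j⁻¹ = e⁻¹ := by
    rw [hed, mul_inv_rev, hii, hji, mul_assoc j (i * j) j, mul_assoc i j j, hj, mul_one]
  refine ⟨e ^ k, hzo, pow_mem (mem_zpowers e) k, key i hei, key j hej, fun h => ?_⟩
  have hdvd : orderOf e ∣ 2 := orderOf_dvd_of_pow_eq_one (by rw [pow_two]; exact h)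
  have := Nat.le_of_dvd two_pos hdvd
  rw [show k = 1 by omega, pow_one]

end Cfsg.Lib.SelfCentFour
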