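import Mathlib

/-!
Subgroups of small index in a simple group, and the exclusion of the order 29160 in degree 15.
-/

set_option autoImplicit false
set_option linter.unusedSectionVars false

namespace Cfsg.Lib.SelfCentFour

open Subgroup Equiv

universe u

variable {G : Type u} [Group G] [Finite G]

theorem permHom_injective [IsSimpleGroup G] {H : Subgroup G} (hH : H ≠ ⊤) :
    Function.Injective (MulAction.toPermHom G (G ⧸ H)) := by
  rw [← MonoidHom.ker_eq_bot_iff, ← normalCore_eq_ker]
  exact (H.normalCore_normal.eq_bot_or_eq_top).resolve_right fun e =>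
    hH (top_le_iff.1 (e ▸ H.normalCore_le))

theorem card_dvd_index_factorial [IsSimpleGroup G] {H : Subgroup G} (hH : H ≠ ⊤) :
    Nat.card G ∣ H.index.factorial := by
  have h := Subgroup.card_dvd_of_injective _ (permHom_injective hH)
  rwa [Nat.card_perm, ← index_eq_card] at h

theorem no_index_fifteen [IsSimpleGroup G] (hn : Nat.card G = 29160) (H : Subgroup G) :
    H.index ≠ 15 := by
  classical
  intro hH
  haveI := Fintype.ofFinite (G ⧸ H)
  haveI : Fact (Nat.Prime 3) := ⟨Nat.prime_three⟩
  have hne : H ≠ ⊤ := fun e => by rw [e, index_top] at hH; omega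
  have hα : Nat.card (G ⧸ H) = 15 := by rw [← index_eq_card, hH]
  haveI : Nontrivial (G ⧸ H) := Finite.one_lt_card_iff_nontrivial.1 (by rw [hα]; norm_num)
  have hco : IsCoatom H := by
    refine ⟨hne, fun Y hY => ?_⟩
    by_contra hYt
    have hd : Y.index ∣ 15 := hH ▸ index_dvd_of_le hY.le
    have hY15 : Y.index ≠ 15 := fun e => by
      have h1 : H.relIndex Y = 1 := by
        have := relIndex_mul_index hY.le
        rw [e, hH] at this
        omega
      exact not_le_of_gt hY (relIndex_eq_one.1 h1)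
    have hY1 : Y.index ≠ 1 := fun e => hYt (index_eq_one.1 e)
    have h5 : Y.index = 3 ∨ Y.index = 5 := by
      have := Nat.le_of_dvd (by norm_num) hd
      interval_cases h : Y.index <;> omega
    have hdvd := card_dvd_index_factorial hYt
    rw [hn] at hdvd
    rcases h5 with e | e <;> rw [e] at hdvd <;> norm_num [Nat.factorial] at hdvd
  have hprim : MulAction.IsPreprimitive G (G ⧸ H) := by
    rw [← MulAction.isCoatom_stabilizer_iff_preprimitive G ((1 : G) : G ⧸ H),
      MulAction.stabilizer_quotient]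
    exact hco
  set f := MulAction.toPermHom G (G ⧸ H) with hf
  let φ : (G ⧸ H) →ₑ[fun g : G => (⟨f g, g, rfl⟩ : f.range)] (G ⧸ H) :=
    { toFun := id
      map_smul' := fun _ _ => rfl }
  have hR : MulAction.IsPreprimitive f.range (G ⧸ H) :=
    MulAction.IsPreprimitive.of_surjective (f := φ) Function.surjective_id
  have hRc : Nat.card f.range = 29160 := by
    rw [← hn]
    exact Nat.card_congr (MonoidHom.ofInjective (permHom_injective hne)).symm.toEquiv
  obtain ⟨P, hP⟩ := Sylow.exists_subgroup_card_pow_prime (G := f.range) 3 (n := 6) (by rw [hRc]; norm_num)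
  set P' := P.map f.range.subtype with hP'
  have hPc : Nat.card P' = 3 ^ 6 := by rw [hP', card_map_of_injective f.range.subtype_injective, hP]
  obtain ⟨Q, hQ⟩ := (IsPGroup.of_card hPc).exists_le_sylow
  have hQc : Nat.card (Q : Subgroup (Perm (G ⧸ H))) ≤ 3 ^ 6 := by
    rw [Q.card_eq_multiplicity]
    refine Nat.pow_le_pow_right (by norm_num) ?_
    rw [Nat.card_perm, hα]
    by_contra h
    have h7 : 3 ^ 7 ∣ Nat.factorial 15 :=
      (Nat.prime_three.pow_dvd_iff_le_factorization (Nat.factorial_ne_zero 15)).2 (by omega)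
    norm_num [Nat.factorial] at h7
  have hPQ : P' = (Q : Subgroup (Perm (G ⧸ H))) := eq_of_le_of_card_ge hQ (by rw [hPc]; exact hQc)
  -- a 3-cycle
  obtain ⟨e⟩ : Nonempty ((G ⧸ H) ≃ Fin 15) := ⟨(Fintype.equivFinOfCardEq
    (by rw [← Nat.card_eq_fintype_card, hα]))⟩
  set z : Perm (G ⧸ H) := swap (e.symm 0) (e.symm 1) * swap (e.symm 0) (e.symm 2) with hz
  have hz3 : z.IsThreeCycle := Equiv.Perm.isThreeCycle_swap_mul_swap_same
    (by simp) (by simp) (by simp)
  obtain ⟨T, hT⟩ := (IsPGroup.of_card (n := 1) (show Nat.card (zpowers z) = 3 ^ 1 by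
    rw [Nat.card_zpowers, hz3.orderOf, pow_one])).exists_le_sylow
  obtain ⟨g, hg⟩ := MulAction.exists_smul_eq (Perm (G ⧸ H)) T Q
  have hmem : g * z * g⁻¹ ∈ f.range := by
    refine map_subtype_le P ?_
    rw [← hP', hPQ, ← hg, Sylow.coe_subgroup_smul]
    exact ⟨z, hT (mem_zpowers z), rfl⟩
  have hc3 : (g * z * g⁻¹).IsThreeCycle := by
    rw [Equiv.Perm.IsThreeCycle, Equiv.Perm.cycleType_conj]
    exact hz3
  have hle := Equiv.Perm.alternatingGroup_le_of_isPreprimitive_of_isThreeCycle_mem hR hc3 hmem
  have := card_dvd_of_le hle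
  rw [hRc, nat_card_alternatingGroup, hα] at this
  norm_num [Nat.factorial] at this

end Cfsg.Lib.SelfCentFour
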