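import Mathlib

/-!
The two Diophantine problems left by the block equations.
-/

set_option autoImplicit false

namespace Cfsg.Lib.SelfCentFour

/-- One fixed group trivial, the other of order `m`. -/
theorem arith_one {n m : ℕ} (hm : Odd m) {F U V : ℤ} (hF : F % 8 = 1) (hF1 : F ≠ 1) (hU : U % 8 = 3)
    (hV : V % 8 = 3) (hUV : U + V = -(1 + F))
    (h1 : (n : ℤ) * (F - 1) ^ 2 = 64 * m * F * (F + 1) * (m + 1) ^ 2)
    (h2 : (n : ℤ) * (F + 1) * (U * V - F) = 256 * (m : ℤ) ^ 2 * F * U * V) :
    m = 1 ∨ (m = 3 ∧ n = 2520) ∨ (m = 5 ∧ n = 7560) := by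
  have hm0 : (0 : ℤ) < m := by exact_mod_cast hm.pos
  have hF0 : F ≠ 0 := by omega
  have key : ((m : ℤ) + 1) ^ 2 * (F + 1) ^ 2 * (U * V - F) = 4 * m * (U * V) * (F - 1) ^ 2 := by
    have h : (64 * (m : ℤ) * F) * (((m : ℤ) + 1) ^ 2 * (F + 1) ^ 2 * (U * V - F) - 4 * m * (U * V) * (F - 1) ^ 2) = 0 := by
      linear_combination (F - 1) ^ 2 * h2 - (F + 1) * (U * V - F) * h1
    rcases mul_eq_zero.1 h with h | h
    · exact absurd h (mul_ne_zero (mul_ne_zero (by norm_num) hm0.ne') hF0)
    · linarith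
  rcases lt_or_ge m 7 with h7 | h7
  · obtain ⟨k, rfl⟩ := hm
    rcases (show k = 0 ∨ k = 1 ∨ k = 2 by omega) with rfl | rfl | rfl
    · exact Or.inl rfl
    · -- three
      refine Or.inr (Or.inl ⟨rfl, ?_⟩)
      push_cast at h1 h2 key
      set Q := F ^ 2 + 14 * F + 1 with hQ
      have hP : U * V * Q = 4 * F * (F + 1) ^ 2 := by rw [hQ]; linarith [key]
      have hd : Q ∣ 48 * F ^ 2 := ⟨4 * F - U * V, by linear_combination hP + (-4 * F) * hQ⟩
      have hd48 : Q ∣ 48 := by
        obtain ⟨c, hc⟩ := hd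
        exact ⟨48 * (1 - F * (F + 14)) + c * (F + 14) ^ 2, by
          linear_combination (F + 14) ^ 2 * hc - 48 * (1 - F * (F + 14)) * hQ⟩
      have hb : Q ≤ 48 := Int.le_of_dvd (by norm_num) hd48
      have hlo : -17 ≤ F := by
        by_contra hc
        have := mul_le_mul_of_nonpos_right (show F + 14 ≤ -4 by omega) (show F ≤ 0 by omega)
        linarith
      have hhi : F ≤ 3 := by
        by_contra hc
        have := mul_le_mul (show 4 ≤ F by omega) (show 18 ≤ F + 14 by omega) (by norm_num) (by omega)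
        linarith
      interval_cases F <;> first | omega |
        (exfalso; nlinarith [sq_nonneg (U - V), show (U + V) ^ 2 = 36 by rw [hUV]; norm_num])
    · -- five
      refine Or.inr (Or.inr ⟨rfl, ?_⟩)
      push_cast at h1 h2 key
      set Q := F ^ 2 + 7 * F + 1 with hQ
      have hP : 4 * (U * V) * Q = 9 * F * (F + 1) ^ 2 := by rw [hQ]; linarith [key]
      have hd : Q ∣ 45 * F ^ 2 := ⟨9 * F - 4 * (U * V), by linear_combination hP + (-9 * F) * hQ⟩
      have hd45 : Q ∣ 45 := by
        obtain ⟨c, hc⟩ := hd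
        exact ⟨45 * (1 - F * (F + 7)) + c * (F + 7) ^ 2, by
          linear_combination (F + 7) ^ 2 * hc - 45 * (1 - F * (F + 7)) * hQ⟩
      have hb : Q ≤ 45 := Int.le_of_dvd (by norm_num) hd45
      have hlo : -14 ≤ F := by
        by_contra hc
        have := mul_le_mul_of_nonpos_right (show F + 7 ≤ -8 by omega) (show F ≤ 0 by omega)
        linarith
      have hhi : F ≤ 4 := by
        by_contra hc
        have := mul_le_mul (show 5 ≤ F by omega) (show 12 ≤ F + 7 by omega) (by norm_num) (by omega)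
        linarith
      interval_cases F <;> omega
  · exfalso
    have hm7 : (7 : ℤ) ≤ m := by exact_mod_cast h7
    set M := (m : ℤ) with hM
    set P := U * V with hP
    rcases lt_or_ge F 0 with hneg | hpos
    · -- `F ≤ -7`
      have hf : F ≤ -7 := by omega
      have hK : 4 * M * (F - 1) ^ 2 * 2 < (M + 1) ^ 2 * (F + 1) ^ 2 * 2 := by
        nlinarith [mul_le_mul_of_nonneg_left (show 3 * (1 - F) ≤ 4 * (-1 - F) by omega)
          (show (0 : ℤ) ≤ 3 * (1 - F) by omega),
          mul_le_mul_of_nonneg_right (show 3 * (1 - F) ≤ 4 * (-1 - F) by omega)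
          (show (0 : ℤ) ≤ 4 * (-1 - F) by omega), sq_nonneg (M - 7)]
      have hPneg : P < 0 := by
        by_contra hc
        push Not at hc
        have hq : 0 < (M + 1) ^ 2 * (F + 1) ^ 2 := by
          have : F + 1 ≠ 0 := by omega
          positivity
        linarith [key, mul_nonneg hc (show 0 ≤ (M + 1) ^ 2 * (F + 1) ^ 2 - 4 * M * (F - 1) ^ 2 by linarith),
          mul_neg_of_pos_of_neg hq hneg]
      -- one of the two is at most `-5`, the other at least `4 - F`
      have h5 : P ≤ 5 * (F - 4) := by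
        rcases le_or_gt U V with hle | hle
        · have hU0 : U < 0 := by
            by_contra hc
            push Not at hc
            have := mul_nonneg hc (hc.trans hle)
            omega
          have := mul_le_mul_of_nonneg_right (show U ≤ -5 by omega) (show 0 ≤ V by omega)
          rw [hP]; nlinarith
        · have hV0 : V < 0 := by
            by_contra hc
            push Not at hc
            have := mul_nonneg (hc.trans hle.le) hc
            omega
          have := mul_le_mul_of_nonneg_left (show V ≤ -5 by omega) (show 0 ≤ U by omega)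
          rw [hP]; nlinarith
      have hbig : 5 * (4 - F) * (M + 1) ^ 2 * (F + 1) ^ 2 - 5 * (4 - F) * (4 * M * (F - 1) ^ 2) ≤
          (-F) * (M + 1) ^ 2 * (F + 1) ^ 2 := by
        have := mul_le_mul_of_nonneg_right h5
          (show 0 ≤ (M + 1) ^ 2 * (F + 1) ^ 2 - 4 * M * (F - 1) ^ 2 by linarith)
        linarith [key]
      have h9 : (M + 1) ^ 2 * (F + 1) ^ 2 < 5 * M * (F - 1) ^ 2 := by
        have hq : 0 < (M + 1) ^ 2 * (F + 1) ^ 2 := by
          have : F + 1 ≠ 0 := by omega
          positivity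
        have hlin : (20 - 4 * F) * ((M + 1) ^ 2 * (F + 1) ^ 2) ≤ 20 * (4 - F) * M * (F - 1) ^ 2 := by
          linarith [hbig]
        by_contra hc
        push Not at hc
        nlinarith [mul_le_mul_of_nonneg_left hc (show (0 : ℤ) ≤ 4 * (4 - F) by omega)]
      have h16 : 9 * (F - 1) ^ 2 ≤ 16 * (F + 1) ^ 2 := by
        nlinarith [mul_le_mul_of_nonneg_left (show 3 * (1 - F) ≤ 4 * (-1 - F) by omega)
          (show (0 : ℤ) ≤ 3 * (1 - F) by omega),
          mul_le_mul_of_nonneg_right (show 3 * (1 - F) ≤ 4 * (-1 - F) by omega)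
          (show (0 : ℤ) ≤ 4 * (-1 - F) by omega)]
      have h80 : 80 * M < 9 * (M + 1) ^ 2 := by nlinarith
      have hz : (0 : ℤ) < (F + 1) ^ 2 := by
        have : F + 1 ≠ 0 := by omega
        positivity
      nlinarith [mul_le_mul_of_nonneg_left h16 (show (0 : ℤ) ≤ 5 * M by omega),
        mul_lt_mul_of_pos_right h80 hz]
    · -- `9 ≤ F`
      have hf : 9 ≤ F := by omega
      have hsq : (F - 1) ^ 2 < (F + 1) ^ 2 := by linarith
      have h4 : 4 * M ≤ (M + 1) ^ 2 := by nlinarith [sq_nonneg (M - 1)]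
      have hm0' : 0 ≤ 4 * M := by omega
      have hK : 4 * M * (F - 1) ^ 2 < (M + 1) ^ 2 * (F + 1) ^ 2 := by
        nlinarith [mul_lt_mul_of_pos_left hsq (show (0 : ℤ) < 4 * M by omega),
          mul_le_mul_of_nonneg_right h4 (sq_nonneg (F + 1))]
      have hPpos : 0 < P := by
        by_contra hc
        push Not at hc
        have hq : 0 < (M + 1) ^ 2 * (F + 1) ^ 2 := by positivity
        linarith [key,
          mul_nonpos_of_nonpos_of_nonneg hc (show 0 ≤ (M + 1) ^ 2 * (F + 1) ^ 2 - 4 * M * (F - 1) ^ 2 by linarith),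
          mul_pos hq (show (0 : ℤ) < F by omega)]
      -- both are at most `-5`
      have h5 : 5 * (F - 4) ≤ P := by
        rcases le_or_gt U V with hle | hle
        · have hU0 : U < 0 := by omega
          have hV0 : V < 0 := by
            by_contra hc
            push Not at hc
            have := mul_nonpos_of_nonpos_of_nonneg hU0.le hc
            omega
          have := mul_nonneg (show 0 ≤ -5 - U by omega) (show 0 ≤ -5 - V by omega)
          rw [hP]; nlinarith
        · have hV0 : V < 0 := by omega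
          have hU0 : U < 0 := by
            by_contra hc
            push Not at hc
            have := mul_nonpos_of_nonneg_of_nonpos hc hV0.le
            omega
          have := mul_nonneg (show 0 ≤ -5 - U by omega) (show 0 ≤ -5 - V by omega)
          rw [hP]; nlinarith
      have hbig : 5 * (F - 4) * ((M + 1) ^ 2 * (F + 1) ^ 2 - 4 * M * (F - 1) ^ 2) ≤
          F * (M + 1) ^ 2 * (F + 1) ^ 2 := by
        have := mul_le_mul_of_nonneg_right h5
          (show 0 ≤ (M + 1) ^ 2 * (F + 1) ^ 2 - 4 * M * (F - 1) ^ 2 by linarith)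
        linarith [key]
      have hM4 : 25 * M < 4 * (M + 1) ^ 2 := by nlinarith
      have hq : 0 < (M + 1) ^ 2 * (F + 1) ^ 2 := by positivity
      have hlin : (4 * F - 20) * ((M + 1) ^ 2 * (F + 1) ^ 2) ≤ 20 * (F - 4) * M * (F - 1) ^ 2 := by
        linarith [hbig]
      have h16 : 4 * (F - 4) ≤ 5 * (F - 5) := by omega
      nlinarith [mul_le_mul_of_nonneg_right h16 (mul_nonneg hm0.le (sq_nonneg (F - 1))),
        mul_lt_mul_of_pos_left hM4 (show (0 : ℤ) < (F - 5) * (F + 1) ^ 2 by
          have : (0 : ℤ) < F - 5 := by omega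
          positivity),
        mul_le_mul_of_nonneg_left hsq.le (show (0 : ℤ) ≤ (F - 5) * M by
          have : (0 : ℤ) ≤ F - 5 := by omega
          positivity)]

/-- Both fixed groups of order `a`, with a subgroup of order `24 * a ^ 4`. -/
theorem arith_equal {n a : ℕ} (ha : 0 < a) (hdvd : 24 * a ^ 4 ∣ n) {F U V : ℤ} (hF : F % 8 = 1)
    (hF1 : F ≠ 1) (hU : U % 8 = 3) (hUV : U + V = -(1 + F))
    (h1 : (n : ℤ) * (F - 1) ^ 2 = 64 * a * a * F * (F + 1) * (a + a) ^ 2)
    (h2 : (n : ℤ) * (F + 1) * (U * V - F) = 256 * (a : ℤ) ^ 2 * (a : ℤ) ^ 2 * F * U * V) :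
    n = 168 * a ^ 4 ∨ n = 360 * a ^ 4 := by
  have ha0 : (0 : ℤ) < a := by exact_mod_cast ha
  have hF0 : F ≠ 0 := by omega
  have hprod : 4 * (U * V) = (F + 1) ^ 2 := by
    have h : (256 * (a : ℤ) ^ 4 * F * F) * (4 * (U * V) - (F + 1) ^ 2) = 0 := by
      linear_combination (F - 1) ^ 2 * h2 - (F + 1) * (U * V - F) * h1
    rcases mul_eq_zero.1 h with h | h
    · exact absurd h (mul_ne_zero (mul_ne_zero (mul_ne_zero (by norm_num)
        (pow_ne_zero _ ha0.ne')) hF0) hF0)
    · linarith
  have hUeq : U = V := by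
    have h : (U - V) ^ 2 = 0 := by
      linear_combination -hprod + (U + V - 1 - F) * hUV
    exact sub_eq_zero.1 (pow_eq_zero_iff two_ne_zero |>.1 h)
  obtain ⟨k, hk⟩ : ∃ k : ℤ, F = 8 * k + 1 := ⟨F / 8, by omega⟩
  obtain ⟨N, hN⟩ := hdvd
  have hkey : 3 * (N : ℤ) * k ^ 2 = (8 * k + 1) * (4 * k + 1) := by
    refine mul_left_cancel₀ (show (512 * (a : ℤ) ^ 4) ≠ 0 by positivity) ?_
    rw [hN, hk] at h1
    push_cast at h1
    linear_combination h1
  have hdk : k ∣ 1 := ⟨3 * (N : ℤ) * k - 12 - 32 * k, by linear_combination -hkey⟩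
  rcases Int.isUnit_iff.1 (isUnit_of_dvd_one hdk) with rfl | rfl
  · right
    have : N = 15 := by omega
    rw [hN, this]; ring
  · left
    have : N = 7 := by omega
    rw [hN, this]; ring

end Cfsg.Lib.SelfCentFour
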