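import Cfsg.Agent.SelfCentFour.Fours

/-!
When both fixed groups `A`, `B` are nontrivial they have the same order, and `C(A)` extended by the
reflection `w s` gives a large subgroup.
-/

set_option autoImplicit false
set_option linter.unusedSectionVars false
set_option linter.style.haveILetI false

namespace Cfsg.Lib.SelfCentFour

open Subgroup Cfsg.Lib.Dihedral

universe u

variable {G : Type u} [Group G] [Finite G]

/-- The pairs of involutions, distributed by the central involution of their dihedral group. -/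
theorem card_le_of_fibres {α β γ : Type*} [Finite β] [Finite γ] {n m : ℕ} {T : β → Type*} {U : γ → Type*}
    [∀ b, Finite (T b)] [∀ c, Finite (U c)] (hT : ∀ b, Nat.card (T b) ≤ n) (hU : ∀ c, Nat.card (U c) ≤ m)
    (f : α → (Σ b, T b) ⊕ (Σ c, U c)) (hf : Function.Injective f) :
    Nat.card α ≤ Nat.card β * n + Nat.card γ * m := by
  haveI := Fintype.ofFinite β
  haveI := Fintype.ofFinite γ
  refine (Nat.card_le_card_of_injective f hf).trans ?_
  rw [Nat.card_sum, Nat.card_sigma, Nat.card_sigma, Nat.card_eq_fintype_card (α := β),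
    Nat.card_eq_fintype_card (α := γ)]
  refine add_le_add ((Finset.sum_le_sum fun b _ => hT b).trans ?_) ((Finset.sum_le_sum fun c _ => hU c).trans ?_)
  · simp
  · simp

namespace Core

variable {S : Sylow 2 G} {w s : G} {W : Subgroup G} (D : Core S w s W)
include D

theorem inverts_w_A' {g : G} (hg : g ∈ centA W s) : w * g * w⁻¹ ∈ centA W s :=
  D.conj_centA D.inverts_w_A hg

theorem card_inverted_W : Nat.card (inverted W s) = Nat.card ↥(W ⊓ centralizer ({w * s} : Set G)) := by
  refine Nat.card_congr (Equiv.subtypeEquivRight fun x => ?_)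
  exact ⟨fun h => (D.inverted_iff h.1).1 h.2, fun h => ⟨h.1, (D.inverted_iff h.1).2 h⟩⟩

/-- Conjugation by `w` exchanges the fixed points of `s` and of `w * w * s`. -/
theorem card_B_swap : Nat.card ↥(W ⊓ centralizer ({w * (w * s)} : Set G)) =
    Nat.card ↥(W ⊓ centralizer ({s} : Set G)) := by
  have h1 := D.swap.card_AB
  rw [← D.card_AB, mul_comm (Nat.card ↥(W ⊓ centralizer ({s} : Set G)))] at h1
  exact Nat.eq_of_mul_eq_mul_left Nat.card_pos h1

section

variable (hA : 1 < Nat.card ↥(W ⊓ centralizer ({s} : Set G)))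
variable (hB : 1 < Nat.card ↥(W ⊓ centralizer ({w * s} : Set G)))
include hA hB

set_option maxHeartbeats 1600000 in
theorem compare :
    Nat.card ↥(W ⊓ centralizer ({w * s} : Set G)) ≤ Nat.card ↥(W ⊓ centralizer ({s} : Set G)) ∧
      (Nat.card ↥(W ⊓ centralizer ({w * s} : Set G)) = Nat.card ↥(W ⊓ centralizer ({s} : Set G)) →
        ∃ X : Subgroup G, Nat.card X = 24 * Nat.card ↥(W ⊓ centralizer ({s} : Set G)) ^ 4) := by
  classical
  haveI : Fact (Nat.Prime 2) := ⟨Nat.prime_two⟩
  set a := Nat.card ↥(W ⊓ centralizer ({s} : Set G)) with ha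
  set b := Nat.card ↥(W ⊓ centralizer ({w * s} : Set G)) with hb
  have ha0 : 0 < a := Nat.card_pos
  have hb0 : 0 < b := Nat.card_pos
  obtain ⟨L, hL⟩ := D.exists_L hA hB
  set X₀ := centA W s with hX₀
  have hodd : ∀ x ∈ L, ¬ 2 ∣ orderOf x := fun x hx => ((hL x).1 hx).2
  have hodd' : ∀ c : G, ∀ x ∈ fixed L c, ¬ 2 ∣ orderOf x := fun c x hx => hodd x (mem_fixed.1 hx).1
  have hWL : W ≤ L := fun x hx => (hL x).2 ⟨fun y hy => D.comm hy hx, D.not_two_dvd x hx⟩
  have hLX : L ≤ X₀ := fun x hx => D.centW_le hA hB (mem_centralizer_iff.2 ((hL x).1 hx).1)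
  have hLt : ∀ x ∈ L, x * (w * w) = (w * w) * x → x ∈ W := fun x hx h =>
    (D.mem x).2 ⟨h, Nat.not_even_iff_odd.1 fun e => hodd x hx (even_iff_two_dvd.1 e)⟩
  have hSL : ∀ g ∈ (S : Subgroup G), ∀ x ∈ L, g * x * g⁻¹ ∈ L := by
    intro g hg x hx
    refine (hL _).2 ⟨fun y hy => ?_, by rw [orderOf_conj]; exact hodd x hx⟩
    have hgt := mem_centralizer_singleton_iff.1 (D.toData.S_le (inv_mem hg))
    have h := commute_conj g (((hL x).1 hx).1 _ (D.conj_mem hgt hy))
    simpa [mul_assoc] using h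
  have hrS : ∀ r ∈ (S : Subgroup G), r * r = 1 → InvAct L r := fun r hr h2 =>
    ⟨hSL r hr, fun x _ => by
      calc r * (r * x * r⁻¹) * r⁻¹ = (r * r) * x * (r * r)⁻¹ := by group
        _ = x := by rw [h2]; group⟩
  have hss := D.toData.ss
  have hw4 := D.toData.w4
  have hwsq : w * s * (w * s) = 1 := Cfsg.Lib.InvolCalc.sq_of_order_two D.toData.ws_order
  have htsq : w * w * s * (w * w * s) = 1 := Cfsg.Lib.InvolCalc.sq_of_order_two D.toData.ts_order
  have hit := hrS _ (mul_mem D.wmem D.wmem) hw4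
  have his := hrS _ D.smem hss
  have hiws := hrS _ (mul_mem D.wmem D.smem) hwsq
  have hits := hrS _ (mul_mem (mul_mem D.wmem D.wmem) D.smem) htsq
  -- fixed points of `w * w`
  have hft : fixed L (w * w) = W := by
    ext x
    rw [fixed, mem_inf, mem_centralizer_singleton_iff]
    exact ⟨fun h => hLt x h.1 h.2, fun h => ⟨hWL h, D.mem_t h⟩⟩
  have hcomm_s : ∀ x : G, (w * w) * (s * x * s⁻¹) * (w * w)⁻¹ = s * ((w * w) * x * (w * w)⁻¹) * s⁻¹ := by
    intro x
    calc (w * w) * (s * x * s⁻¹) * (w * w)⁻¹ = (w * w * s) * x * (w * w * s)⁻¹ := by group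
      _ = (s * (w * w)) * x * (s * (w * w))⁻¹ := by rw [D.toData.ts]
      _ = _ := by group
  have hcomm_ws : ∀ x : G, (w * w) * (w * s * x * (w * s)⁻¹) * (w * w)⁻¹ =
      (w * s) * ((w * w) * x * (w * w)⁻¹) * (w * s)⁻¹ := by
    intro x
    calc (w * w) * (w * s * x * (w * s)⁻¹) * (w * w)⁻¹
        = ((w * w) * (w * s)) * x * ((w * w) * (w * s))⁻¹ := by group
      _ = ((w * s) * (w * w)) * x * ((w * s) * (w * w))⁻¹ := by rw [D.ws_t]
      _ = _ := by group
  -- the four-group formulas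
  have f1 := four_group_formula hodd hit his (fun x _ => hcomm_s x)
  have f2 := four_group_formula hodd hit hiws (fun x _ => hcomm_ws x)
  have hwL : ∀ x ∈ L, w * x * w⁻¹ ∈ L := hSL w D.wmem
  have hwL' : ∀ x ∈ L, w⁻¹ * x * w⁻¹⁻¹ ∈ L := hSL w⁻¹ (inv_mem D.wmem)
  have e1 : Nat.card (fixed L (w * w * s)) = Nat.card (fixed L s) := by
    refine le_antisymm (card_fixed_conj hwL' fun x _ => ?_) (card_fixed_conj hwL fun x _ => ?_)
    · rw [← D.toData.ws_conj]; group
    · rw [D.toData.ws_conj]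
  have hww : w * (w * s) * w⁻¹ = w * w * (w * s) := by
    calc w * (w * s) * w⁻¹ = w * (w * s * w⁻¹) := by group
      _ = _ := by rw [D.toData.ws_conj]; group
  have e2 : Nat.card (fixed L (w * w * (w * s))) = Nat.card (fixed L (w * s)) := by
    refine le_antisymm (card_fixed_conj hwL' fun x _ => ?_) (card_fixed_conj hwL fun x _ => ?_)
    · rw [← hww]; group
    · rw [hww]
  rw [hft, e1] at f1
  rw [hft, e2] at f2
  change Nat.card L * a ^ 2 = _ at f1
  change Nat.card L * b ^ 2 = _ at f2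
  rw [← D.card_AB, ← ha, ← hb] at f1 f2
  -- the inverted elements
  set Q := fixed L (w * s) with hQ
  set r := Nat.card (inverted Q (w * w)) with hr
  have hQt : fixed Q (w * w) = W ⊓ centralizer ({w * s} : Set G) := by
    ext x
    simp only [hQ, fixed, mem_inf, mem_centralizer_singleton_iff]
    exact ⟨fun h => ⟨hLt x h.1.1 h.2, h.1.2⟩, fun h => ⟨⟨hWL h.1, h.2⟩, D.mem_t h.1⟩⟩
  have hq : r * b = Nat.card Q := by
    have h := card_inverted_mul_card_fixed (hodd' (w * s))
      (hit.restrict fun x _ => hcomm_ws x)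
    rwa [← hQ, hQt] at h
  have hit' := card_inverted_mul_card_fixed hodd hit
  rw [hft, ← D.card_AB, ← ha, ← hb] at hit'
  have hr0 : Nat.card (inverted L (w * w)) = r ^ 2 := by
    rw [← hq, ← hit'] at f2
    have h : Nat.card (inverted L (w * w)) * (a * b * (b * b)) = r ^ 2 * (a * b * (b * b)) := by
      linear_combination f2
    exact Nat.eq_of_mul_eq_mul_right (by positivity) h
  have hp : Nat.card (fixed L s) = r * a := by
    rw [← hit', hr0] at f1
    have h : Nat.card (fixed L s) * Nat.card (fixed L s) * (a * b) = (r * a) * (r * a) * (a * b) := by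
      linear_combination -f1
    exact Nat.mul_self_inj.1 (Nat.eq_of_mul_eq_mul_right (by positivity) h)
  have hinv : ∀ d, Nat.card (fixed L d) = r * a → InvAct L d → Nat.card (inverted L d) = r * b := by
    intro d hd hi
    have h := card_inverted_mul_card_fixed hodd hi
    rw [hd, ← hit', hr0] at h
    have hpos : 0 < r * a := hd ▸ Nat.card_pos
    exact Nat.eq_of_mul_eq_mul_right hpos (by linear_combination h)
  have hjs := hinv s hp his
  have hjts := hinv _ (e1.trans hp) hits
  -- the centraliser of `w * s`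
  obtain ⟨g, hg⟩ := isConj_iff.1 (D.toData.inv_conj D.toData.ws_order)
  have hback : ∀ x : G, x * (w * s) = (w * s) * x → Odd (orderOf x) → g⁻¹ * x * g ∈ W := by
    intro x hx hxo
    refine (D.mem _).2 ⟨?_, by
      have e := orderOf_conj g⁻¹ x
      rw [inv_inv] at e
      rw [e]; exact hxo⟩
    apply conj_inj g
    rw [show g * (g⁻¹ * x * g * (w * w)) * g⁻¹ = x * (g * (w * w) * g⁻¹) by group,
      show g * (w * w * (g⁻¹ * x * g)) * g⁻¹ = (g * (w * w) * g⁻¹) * x by group, hg, hx]
  have hqle : Nat.card Q ≤ a * b := by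
    rw [ha, hb, D.card_AB]
    refine Nat.card_le_card_of_injective (fun x : Q => (⟨g⁻¹ * x * g, hback x
      (mem_centralizer_singleton_iff.1 x.2.2)
      (Nat.not_even_iff_odd.1 fun e => hodd x x.2.1 (even_iff_two_dvd.1 e))⟩ : W)) fun x y h => ?_
    exact Subtype.ext (mul_left_cancel (mul_right_cancel (congrArg Subtype.val h)))
  have hra : r ≤ a := by
    rw [← hq] at hqle
    exact Nat.le_of_mul_le_mul_right hqle hb0
  set H := X₀ ⊓ centralizer ({w * s} : Set G) with hH
  have hwsX : w * s ∉ X₀ := fun h => D.no_four hA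
    (show w ∈ X₀ by simpa [mul_assoc, hss] using mul_mem h D.s_centA) D.hw
  have htH : w * w ∈ H := ⟨D.t_centA, mem_centralizer_singleton_iff.2 D.ws_t.symm⟩
  have hH4 : ¬ 4 ∣ Nat.card H := by
    intro h4
    obtain ⟨P, hP⟩ := Sylow.exists_subgroup_card_pow_prime (G := H) 2 (n := 2) (by simpa using h4)
    set P' := P.map H.subtype with hP'
    have hPc : Nat.card P' = 2 ^ 2 := by rw [hP', card_map_of_injective H.subtype_injective, hP]
    have hV : (S : Subgroup G) ⊓ centralizer ({s} : Set G) ≤ X₀ := by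
      rintro d ⟨hd, hds⟩
      rcases D.toData.S_comm_s hd (mem_centralizer_singleton_iff.1 hds) with e | e | e | e <;> rw [e]
      exacts [one_mem _, D.t_centA, D.s_centA, D.ts_centA]
    obtain ⟨c, hc, hcV⟩ := exists_conj_in hV (k := 2) (by rw [D.card_V]; norm_num) (D.not_eight hA)
      (IsPGroup.of_card hPc) (fun x hx => (map_subtype_le P hx : x ∈ H).1)
    have hall : ∀ v ∈ (S : Subgroup G) ⊓ centralizer ({s} : Set G), ∃ x ∈ P', c * x * c⁻¹ = v := by
      let f : P' → ↥((S : Subgroup G) ⊓ centralizer ({s} : Set G)) := fun x => ⟨c * x * c⁻¹, hcV x x.2⟩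
      have hf : Function.Injective f := fun x y h => Subtype.ext (conj_inj c (congrArg Subtype.val h))
      have hbij := hf.bijective_of_nat_card_le (by rw [D.card_V, hPc]; norm_num)
      intro v hv
      obtain ⟨x, hx⟩ := hbij.2 ⟨v, hv⟩
      exact ⟨x, x.2, congrArg Subtype.val hx⟩
    set z := c * (w * s) * c⁻¹ with hz
    have hzc : ∀ v ∈ (S : Subgroup G) ⊓ centralizer ({s} : Set G), z * v = v * z := by
      intro v hv
      obtain ⟨x, hx, rfl⟩ := hall v hv
      exact commute_conj c (mem_centralizer_singleton_iff.1 (map_subtype_le P hx : x ∈ H).2).symm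
    have h1 := hzc (w * w) ⟨mul_mem D.wmem D.wmem, mem_centralizer_singleton_iff.2 D.toData.ts⟩
    have h2 := hzc s ⟨D.smem, mem_centralizer_singleton_iff.2 rfl⟩
    obtain ⟨x, hx, d, hd, hds, he⟩ := D.decomp_s h1 h2
    have hzX : z ∈ X₀ := by
      rw [he]
      exact mul_mem (D.W_le_centA hx.1) (hV ⟨hd, mem_centralizer_singleton_iff.2 hds⟩)
    refine hwsX ?_
    have := mul_mem (mul_mem (inv_mem hc) hzX) hc
    rwa [hz, show c⁻¹ * (c * (w * s) * c⁻¹) * c = w * s by group] at this
  obtain ⟨LH, hLH, hHc, hHd⟩ := exists_half H hH4 htH D.toData.t_order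
  have hLHQ : LH = Q := by
    ext x
    simp only [hLH, hH, hQ, fixed, mem_inf, mem_centralizer_singleton_iff]
    refine ⟨fun h => ⟨(hL x).2 ⟨fun y hy => ?_, h.2⟩, h.1.2⟩,
      fun h => ⟨⟨hLX h.1, h.2⟩, hodd x h.1⟩⟩
    obtain ⟨u, hu, v, hv, rfl⟩ := D.exists_mul hy
    have c1 : Commute u x := mem_centA.1 h.1.1 u hu.1 (mem_centralizer_singleton_iff.1 hu.2)
    have c2 : Commute v x := by
      have k := D.comm (hback v (mem_centralizer_singleton_iff.1 hv.2) (D.mem_odd hv.1))
        (hback x h.1.2 (Nat.not_even_iff_odd.1 fun e => h.2 (even_iff_two_dvd.1 e)))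
      exact conj_inj g⁻¹ (by
        rw [inv_inv, show g⁻¹ * (v * x) * g = g⁻¹ * v * g * (g⁻¹ * x * g) by group, k]; group)
    exact (c1.mul_left c2).eq
  subst hLHQ
  rw [← hq] at hHc
  -- the two classes
  set I₀ := {g : G // ∃ h ∈ X₀, g = h * (w * w) * h⁻¹} with hI₀
  set I₁ := {g : G // ∃ h ∈ X₀, g = h * (w * s) * h⁻¹} with hI₁
  have hN0 : Nat.card I₀ * (4 * (a * b)) = Nat.card X₀ := by
    rw [ha, hb, D.card_AB, ← D.card_cent_t hA]
    exact card_orbit X₀ (w * w)
  have hN1 : Nat.card I₁ * (2 * (r * b)) = Nat.card X₀ := by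
    rw [← hHc]
    exact card_orbit X₀ (w * s)
  -- the subgroup generated by `C(A)` and `w * s`
  let X : Subgroup G :=
    { carrier := {x | x ∈ X₀ ∨ x * (w * s) ∈ X₀}
      one_mem' := Or.inl (one_mem _)
      mul_mem' := by
        intro x y hx hy
        have hwi : (w * s)⁻¹ = w * s := inv_eq_of_mul_eq_one_right hwsq
        rcases hx with hx | hx <;> rcases hy with hy | hy
        · exact Or.inl (mul_mem hx hy)
        · exact Or.inr (by rw [mul_assoc]; exact mul_mem hx hy)
        · refine Or.inr ?_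
          rw [show x * y * (w * s) = (x * (w * s)) * ((w * s)⁻¹ * y * (w * s)) by group, hwi]
          exact mul_mem hx (D.conj_ws_centA hy)
        · refine Or.inl ?_
          rw [show x * y = (x * (w * s)) * ((w * s)⁻¹ * (y * (w * s)) * (w * s)⁻¹) by group, hwi]
          exact mul_mem hx (D.conj_ws_centA hy)
      inv_mem' := by
        intro x hx
        have hwi : (w * s)⁻¹ = w * s := inv_eq_of_mul_eq_one_right hwsq
        rcases hx with hx | hx
        · exact Or.inl (inv_mem hx)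
        · refine Or.inr ?_
          rw [show x⁻¹ * (w * s) = (w * s) * (x * (w * s))⁻¹ * (w * s) by group]
          exact D.conj_ws_centA (inv_mem hx) }
  have hX : ∀ x, x ∈ X ↔ x ∈ X₀ ∨ x * (w * s) ∈ X₀ := fun x => Iff.rfl
  have hXc : Nat.card X = 2 * Nat.card X₀ := by
    have hle : X₀ ≤ X := fun x hx => (hX x).2 (Or.inl hx)
    rw [← Nat.card_congr (subgroupOfEquivOfLe hle).toEquiv, mul_comm, ← card_mul_index (X₀.subgroupOf X)]
    congr 1
    refine (relIndex_eq_two_iff.2 ⟨w * s, (hX _).2 (Or.inr (by rw [hwsq]; exact one_mem _)), fun y hy => ?_⟩)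
    rcases (hX y).1 hy with h | h
    · exact Or.inr ⟨h, fun h' => hwsX ((X₀.mul_mem_cancel_left h).1 h')⟩
    · exact Or.inl ⟨h, fun h' => hwsX ((X₀.mul_mem_cancel_left h').1 h)⟩
  have hXnorm : ∀ x ∈ X, ∀ y ∈ X₀, x⁻¹ * y * x ∈ X₀ := by
    intro x hx y hy
    rcases (hX x).1 hx with h | h
    · exact mul_mem (mul_mem (inv_mem h) hy) h
    · rw [show x⁻¹ * y * x = (w * s) * ((x * (w * s))⁻¹ * y * (x * (w * s))) * (w * s)⁻¹ by group,
        inv_eq_of_mul_eq_one_right hwsq]
      exact D.conj_ws_centA (mul_mem (mul_mem (inv_mem h) hy) h)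
  have hI₁X : ∀ j : I₁, (j : G) ∈ X ∧ (j : G) ∉ X₀ ∧ orderOf (j : G) = 2 := by
    rintro ⟨j, h, hh, rfl⟩
    refine ⟨mul_mem (mul_mem ((hX h).2 (Or.inl hh)) ((hX _).2 (Or.inr (by rw [hwsq]; exact one_mem _))))
      (inv_mem ((hX h).2 (Or.inl hh))), fun hc => hwsX ?_, by rw [orderOf_conj, D.toData.ws_order]⟩
    have := mul_mem (mul_mem (inv_mem hh) hc) hh
    rwa [show h⁻¹ * (h * (w * s) * h⁻¹) * h = w * s by group] at this
  have hI₀X : ∀ i : I₀, (i : G) ∈ X₀ ∧ orderOf (i : G) = 2 := by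
    rintro ⟨i, h, hh, rfl⟩
    exact ⟨mul_mem (mul_mem hh D.t_centA) (inv_mem hh), by rw [orderOf_conj, D.toData.t_order]⟩
  have houter : ∀ z : G, z ∈ X → z ∉ X₀ → orderOf z = 2 → ∃ h ∈ X₀, z = h * (w * s) * h⁻¹ := by
    intro z hz hz0 hzo
    have hSX : (S : Subgroup G) ≤ X := by
      intro d hd
      have hwX : w ∈ X := (hX w).2 (Or.inr (by rw [← mul_assoc]; exact D.ts_centA))
      rcases D.toData.hS d hd with h | h
      · exact zpowers_le.2 hwX h
      · rw [show d = d * s * s by rw [mul_assoc, hss, mul_one]]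
        exact mul_mem (zpowers_le.2 hwX h) ((hX s).2 (Or.inl D.s_centA))
    obtain ⟨c, hc, hcS⟩ := Cfsg.Lib.TwoFusion.exists_sylow_conj S hSX
      (IsPGroup.of_card (n := 1) (by rw [Nat.card_zpowers, hzo, pow_one]) : IsPGroup 2 (zpowers z))
      (zpowers_le.2 hz)
    have hm := hcS z (mem_zpowers z)
    have hout : c * z * c⁻¹ ∉ X₀ := fun h => hz0 (by
      have := hXnorm c hc _ h
      rwa [show c⁻¹ * (c * z * c⁻¹) * c = z by group] at this)
    have ho : orderOf (c * z * c⁻¹) = 2 := by rw [orderOf_conj, hzo]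
    have key : ∃ e ∈ X₀, c * z * c⁻¹ = e * (w * s) * e⁻¹ := by
      rcases D.toData.S_cases hm with k | k | k | k | k | k | k | k
      · exact absurd (k ▸ one_mem _) hout
      · rw [k, D.hw] at ho; omega
      · exact absurd (k ▸ D.t_centA) hout
      · rw [k, orderOf_inv, D.hw] at ho; omega
      · exact absurd (k ▸ D.s_centA) hout
      · exact ⟨1, one_mem _, by rw [k]; group⟩
      · exact absurd (k ▸ D.ts_centA) hout
      · refine ⟨s, D.s_centA, ?_⟩
        rw [k, ← D.toData.sw]; group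
    obtain ⟨e, he, hk⟩ := key
    rcases (hX c).1 hc with h | h
    · exact ⟨c⁻¹ * e, mul_mem (inv_mem h) he, by
        rw [show c⁻¹ * e * (w * s) * (c⁻¹ * e)⁻¹ = c⁻¹ * (e * (w * s) * e⁻¹) * c by group, ← hk]; group⟩
    · refine ⟨(w * s) * ((c * (w * s))⁻¹ * e) * (w * s), D.conj_ws_centA (mul_mem (inv_mem h) he), ?_⟩
      have hwi : (w * s)⁻¹ = w * s := inv_eq_of_mul_eq_one_right hwsq
      have ez : z = c⁻¹ * (e * (w * s) * e⁻¹) * c := by rw [← hk]; group
      rw [show (w * s) * ((c * (w * s))⁻¹ * e) * (w * s) = c⁻¹ * e * (w * s) by group, ez]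
      group
  -- the three kinds of local pairs
  have hTi : Nat.card {i : I₀ // (i : G) * (w * w) = (w * w) * i ∧ (i : G) ≠ w * w} ≤ 2 * b := by
    have key : ∀ i : {i : I₀ // (i : G) * (w * w) = (w * w) * i ∧ (i : G) ≠ w * w},
        ∃ p : Bool × inverted W s, ((i.1 : I₀) : G) = p.2.1 * (if p.1 then s else w * w * s) := by
      rintro ⟨i, hit', hne⟩
      obtain ⟨hi, hio⟩ := hI₀X i
      obtain ⟨y, hy, d, hd, he⟩ := D.cent_t hA hi hit'
      have hi2 := Cfsg.Lib.InvolCalc.sq_of_order_two hio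
      rw [he] at hi2
      have hyt := D.mem_t hy
      rcases hd with e | e | e | e <;> rw [e] at hi2 he
      · rw [mul_one] at hi2 he
        rw [odd_sq_eq_one (D.mem_odd hy) hi2] at he
        rw [he, orderOf_one] at hio
        omega
      · have h1 : y * y = 1 := by
          calc y * y = y * y * ((w * w) * (w * w)) := by rw [hw4, mul_one]
            _ = y * (y * (w * w)) * (w * w) := by group
            _ = y * ((w * w) * y) * (w * w) := by rw [hyt]
            _ = y * (w * w) * (y * (w * w)) := by group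
            _ = 1 := hi2
        rw [odd_sq_eq_one (D.mem_odd hy) h1, one_mul] at he
        exact absurd he hne
      · refine ⟨(true, ⟨y, hy, ?_⟩), he⟩
        rw [D.toData.s_inv]
        exact eq_inv_of_mul_eq_one_right (by rw [← hi2]; group)
      · refine ⟨(false, ⟨y, hy, ?_⟩), he⟩
        rw [D.toData.s_inv]
        refine eq_inv_of_mul_eq_one_right ?_
        calc y * (s * y * s) = y * (s * y * s) * ((w * w) * (w * w)) := by rw [hw4, mul_one]
          _ = y * (s * y) * (s * (w * w)) * (w * w) := by group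
          _ = y * (s * (y * (w * w))) * s * (w * w) := by rw [← D.toData.ts]; group
          _ = y * (s * (w * w)) * y * s * (w * w) := by rw [hyt]; group
          _ = y * (w * w * s) * y * s * (w * w) := by rw [← D.toData.ts]
          _ = y * (w * w * s) * (y * (s * (w * w))) := by group
          _ = 1 := by rw [← D.toData.ts]; exact hi2
    choose p hp using key
    haveI : Finite (inverted W s) := Subtype.finite
    refine (Nat.card_le_card_of_injective p fun x y h =>
      Subtype.ext (Subtype.ext (by rw [hp x, hp y, h]))).trans ?_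
    rw [Nat.card_prod, Nat.card_eq_fintype_card (α := Bool), Fintype.card_bool, D.card_inverted_W]
  have hTj : Nat.card {j : I₁ // (j : G) * (w * w) = (w * w) * j} ≤ 2 * a := by
    have key : ∀ j : {j : I₁ // (j : G) * (w * w) = (w * w) * j},
        ∃ p : Bool × inverted W (w * s),
          ((j.1 : I₁) : G) = p.2.1 * ((if p.1 then 1 else w * w) * (w * s)) := by
      rintro ⟨j, hjt⟩
      obtain ⟨hjX, hj0, hjo⟩ := hI₁X j
      have hm := ((hX _).1 hjX).resolve_left hj0
      have hc : (j : G) * (w * s) * (w * w) = (w * w) * ((j : G) * (w * s)) := by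
        rw [mul_assoc, D.ws_t, ← mul_assoc, hjt, mul_assoc]
      obtain ⟨y, hy, d, hd, he⟩ := D.cent_t hA hm hc
      have hje : (j : G) = y * (d * (w * s)) := by
        rw [← mul_assoc, ← he, mul_assoc, hwsq, mul_one]
      have hj2 := Cfsg.Lib.InvolCalc.sq_of_order_two hjo
      rw [hje] at hj2
      have hyt := D.mem_t hy
      have hwi : (w * s)⁻¹ = w * s := inv_eq_of_mul_eq_one_right hwsq
      have hbad : ∀ v : G, (v = w ∨ v = w⁻¹) → y * v * (y * v) = 1 → False := by
        intro v hv h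
        have hvy : v * y * v⁻¹ = y⁻¹ := by
          rcases hv with e | e <;> subst e
          · exact D.inverts hy
          · have := D.inverts (inv_mem hy)
            rw [inv_inv] at this
            calc w⁻¹ * y * w⁻¹⁻¹ = w⁻¹ * (w * y⁻¹ * w⁻¹) * w := by rw [this]; group
              _ = y⁻¹ := by group
        have hvv : v * v = w * w := by
          rcases hv with e | e <;> subst e
          · rfl
          · rw [← mul_inv_rev]; exact inv_eq_of_mul_eq_one_right hw4
        refine D.toData.t_ne ?_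
        rw [← hvv, ← h, show y * v * (y * v) = y * (v * y * v⁻¹) * (v * v) by group, hvy, mul_inv_cancel,
          one_mul]
      rcases hd with e | e | e | e <;> rw [e] at hje hj2
      · refine ⟨(true, ⟨y, hy, ?_⟩), by simpa using hje⟩
        rw [hwi]
        exact eq_inv_of_mul_eq_one_right (by rw [← hj2]; group)
      · refine ⟨(false, ⟨y, hy, ?_⟩), by simpa using hje⟩
        rw [hwi]
        refine eq_inv_of_mul_eq_one_right ?_
        calc y * (w * s * y * (w * s))
            = y * (w * s * y) * (w * s) * ((w * w) * (w * w)) := by rw [hw4, mul_one]; group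
          _ = y * (w * s * y) * ((w * s) * (w * w)) * (w * w) := by group
          _ = y * (w * s) * (y * (w * w)) * (w * s) * (w * w) := by rw [D.ws_t]; group
          _ = y * ((w * s) * (w * w)) * y * (w * s) * (w * w) := by rw [hyt]; group
          _ = y * (w * w * (w * s)) * y * (w * s) * (w * w) := by rw [D.ws_t]
          _ = y * (w * w * (w * s)) * (y * ((w * s) * (w * w))) := by group
          _ = 1 := by rw [D.ws_t]; exact hj2
      · refine (hbad w⁻¹ (Or.inr rfl) ?_).elim
        rwa [show s * (w * s) = w⁻¹ by rw [← mul_assoc, D.toData.sw, mul_assoc, hss, mul_one]] at hj2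
      · refine (hbad w (Or.inl rfl) ?_).elim
        rwa [show w * w * s * (w * s) = w by
          rw [mul_assoc (w * w), ← mul_assoc s, D.toData.sw, mul_assoc w⁻¹, hss, mul_one]; group] at hj2
    choose p hp using key
    haveI : Finite (inverted W (w * s)) := Subtype.finite
    refine (Nat.card_le_card_of_injective p fun x y h =>
      Subtype.ext (Subtype.ext (by rw [hp x, hp y, h]))).trans ?_
    rw [Nat.card_prod, Nat.card_eq_fintype_card (α := Bool), Fintype.card_bool, D.swap.card_inverted_W,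
      D.card_B_swap]
  haveI : Finite (inverted Q (w * w)) := Subtype.finite
  have hHinv : ∀ x ∈ H, x * x = 1 → x ≠ 1 → ∃ l : inverted Q (w * w), x = l.1 * (w * w) := by
    intro x hx h2 h1
    obtain ⟨l, hl, e | e⟩ := hHd x hx
    · refine absurd ?_ h1
      rw [e] at h2 ⊢
      exact odd_sq_eq_one (Nat.not_even_iff_odd.1 fun k => hodd' _ l hl (even_iff_two_dvd.1 k)) h2
    · refine ⟨⟨l, hl, ?_⟩, e⟩
      rw [e] at h2
      rw [inv_eq_of_mul_eq_one_right hw4]
      exact eq_inv_of_mul_eq_one_right (by rw [← h2]; group)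
  have hUi : Nat.card {i : I₀ // (i : G) * (w * s) = (w * s) * i} ≤ r := by
    have key : ∀ i : {i : I₀ // (i : G) * (w * s) = (w * s) * i}, ∃ l : inverted Q (w * w),
        ((i.1 : I₀) : G) = l.1 * (w * w) := by
      rintro ⟨i, hi⟩
      obtain ⟨h1, h2⟩ := hI₀X i
      exact hHinv i ⟨h1, mem_centralizer_singleton_iff.2 hi⟩ (Cfsg.Lib.InvolCalc.sq_of_order_two h2)
        (Cfsg.Lib.InvolCalc.ne_one_of_order_two h2)
    choose p hp using key
    exact Nat.card_le_card_of_injective p fun x y h => Subtype.ext (Subtype.ext (by rw [hp x, hp y, h]))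
  have hUj : Nat.card {j : I₁ // (j : G) * (w * s) = (w * s) * j ∧ (j : G) ≠ w * s} ≤ r := by
    have key : ∀ j : {j : I₁ // (j : G) * (w * s) = (w * s) * j ∧ (j : G) ≠ w * s},
        ∃ l : inverted Q (w * w), ((j.1 : I₁) : G) = l.1 * (w * w) * (w * s) := by
      rintro ⟨j, hjc, hne⟩
      obtain ⟨hjX, hj0, hjo⟩ := hI₁X j
      have hj2 := Cfsg.Lib.InvolCalc.sq_of_order_two hjo
      obtain ⟨l, hl⟩ := hHinv ((j : G) * (w * s))
        ⟨((hX _).1 hjX).resolve_left hj0, mem_centralizer_singleton_iff.2 (by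
          rw [← mul_assoc (w * s) (j : G) (w * s), ← hjc])⟩
        (by rw [show (j : G) * (w * s) * ((j : G) * (w * s)) = (j : G) * ((w * s) * j) * (w * s) by group,
              ← hjc, ← mul_assoc (j : G) j, hj2, one_mul, hwsq])
        (fun e => hne (by rw [eq_inv_of_mul_eq_one_left e, inv_eq_of_mul_eq_one_right hwsq]))
      refine ⟨l, ?_⟩
      show (j : G) = _
      rw [← hl, mul_assoc (j : G), hwsq, mul_one]
    choose p hp using key
    exact Nat.card_le_card_of_injective p fun x y h => Subtype.ext (Subtype.ext (by rw [hp x, hp y, h]))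
  -- the pairs
  let T : I₀ → Type u := fun z => {p : I₀ × I₁ // (p.1 : G) * z = z * p.1 ∧ (p.1 : G) ≠ z ∧ (p.2 : G) * z = z * p.2}
  let U : I₁ → Type u := fun z => {p : I₀ × I₁ // (p.1 : G) * z = z * p.1 ∧ (p.2 : G) * z = z * p.2 ∧ (p.2 : G) ≠ z}
  have hmove0 : ∀ (h : G), h ∈ X₀ → ∀ i : I₀, ∃ k ∈ X₀, h⁻¹ * i.1 * h = k * (w * w) * k⁻¹ := by
    rintro h hh ⟨i, k, hk, rfl⟩
    exact ⟨h⁻¹ * k, mul_mem (inv_mem hh) hk, by group⟩
  have hmove1 : ∀ (h : G), h ∈ X₀ → ∀ i : I₁, ∃ k ∈ X₀, h⁻¹ * i.1 * h = k * (w * s) * k⁻¹ := by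
    rintro h hh ⟨i, k, hk, rfl⟩
    exact ⟨h⁻¹ * k, mul_mem (inv_mem hh) hk, by group⟩
  have hconjc : ∀ h x z₀ : G, x * (h * z₀ * h⁻¹) = (h * z₀ * h⁻¹) * x →
      h⁻¹ * x * h * z₀ = z₀ * (h⁻¹ * x * h) := by
    intro h x z₀ e
    calc h⁻¹ * x * h * z₀ = h⁻¹ * (x * (h * z₀ * h⁻¹)) * h := by group
      _ = h⁻¹ * ((h * z₀ * h⁻¹) * x) * h := by rw [e]
      _ = z₀ * (h⁻¹ * x * h) := by group
  have hconjn : ∀ h x z₀ : G, x ≠ h * z₀ * h⁻¹ → h⁻¹ * x * h ≠ z₀ := fun h x z₀ e e' => e (by
    rw [← e']; group)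
  have hT : ∀ z, Nat.card (T z) ≤ 2 * b * (2 * a) := by
    rintro ⟨z, h, hh, rfl⟩
    refine le_trans (Nat.card_le_card_of_injective (fun p =>
      ((⟨⟨h⁻¹ * p.1.1.1 * h, hmove0 h hh _⟩, hconjc _ _ _ p.2.1, hconjn _ _ _ p.2.2.1⟩,
        ⟨⟨h⁻¹ * p.1.2.1 * h, hmove1 h hh _⟩, hconjc _ _ _ p.2.2.2⟩) :
        {i : I₀ // (i : G) * (w * w) = (w * w) * i ∧ (i : G) ≠ w * w} ×
          {j : I₁ // (j : G) * (w * w) = (w * w) * j})) ?_) ?_
    · intro p q e
      simp only [Prod.mk.injEq, Subtype.mk.injEq] at e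
      exact Subtype.ext (Prod.ext
        (Subtype.ext (mul_left_cancel (mul_right_cancel (congrArg Subtype.val e.1))))
        (Subtype.ext (mul_left_cancel (mul_right_cancel (congrArg Subtype.val e.2)))))
    · rw [Nat.card_prod]; exact Nat.mul_le_mul hTi hTj
  have hU : ∀ z, Nat.card (U z) ≤ r * r := by
    rintro ⟨z, h, hh, rfl⟩
    refine le_trans (Nat.card_le_card_of_injective (fun p =>
      ((⟨⟨h⁻¹ * p.1.1.1 * h, hmove0 h hh _⟩, hconjc _ _ _ p.2.1⟩,
        ⟨⟨h⁻¹ * p.1.2.1 * h, hmove1 h hh _⟩, hconjc _ _ _ p.2.2.1, hconjn _ _ _ p.2.2.2⟩) :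
        {i : I₀ // (i : G) * (w * s) = (w * s) * i} ×
          {j : I₁ // (j : G) * (w * s) = (w * s) * j ∧ (j : G) ≠ w * s})) ?_) ?_
    · intro p q e
      simp only [Prod.mk.injEq, Subtype.mk.injEq] at e
      exact Subtype.ext (Prod.ext
        (Subtype.ext (mul_left_cancel (mul_right_cancel (congrArg Subtype.val e.1))))
        (Subtype.ext (mul_left_cancel (mul_right_cancel (congrArg Subtype.val e.2)))))
    · rw [Nat.card_prod]; exact Nat.mul_le_mul hUi hUj
  have hfib : ∀ p : I₀ × I₁, ∃ q : (Σ z, T z) ⊕ (Σ z, U z),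
      Sum.elim (fun x => x.2.1) (fun x => x.2.1) q = p := by
    rintro ⟨i, j⟩
    obtain ⟨hi0, hio⟩ := hI₀X i
    obtain ⟨hjX, hj0, hjo⟩ := hI₁X j
    have hi2 := Cfsg.Lib.InvolCalc.sq_of_order_two hio
    have hj2 := Cfsg.Lib.InvolCalc.sq_of_order_two hjo
    have heX0 : (i : G) * j ∉ X₀ := fun h => hj0 ((X₀.mul_mem_cancel_left hi0).1 h)
    have hsq : (i : G) * j * ((i : G) * j) ∈ X₀ := by
      rw [show (i : G) * j * ((i : G) * j) = (i : G) * (j * i * j) by group]
      refine mul_mem hi0 ?_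
      have h := hXnorm j hjX i hi0
      rwa [inv_eq_of_mul_eq_one_right hj2] at h
    have hev : Even (orderOf ((i : G) * j)) := Nat.not_odd_iff_even.1 fun h => heX0 (mem_of_sq_mem h hsq)
    obtain ⟨z, hzo, hze, hiz, hjz, hzeq⟩ := exists_central_involution hi2 hj2 hev
    have hzX : z ∈ X := zpowers_le.2 (mul_mem ((hX _).2 (Or.inl hi0)) hjX) hze
    by_cases hz0 : z ∈ X₀
    · have hne : (i : G) ≠ z := by
        intro h
        refine heX0 ?_
        have hc : Commute z ((i : G) * j) := by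
          obtain ⟨k, hk⟩ := mem_zpowers_iff.1 hze
          rw [← hk]
          exact (Commute.refl _).zpow_left k
        rw [← h] at hc
        have hij : (i : G) * j = j * i := by
          have e := hc.eq
          rw [← mul_assoc, hi2, one_mul] at e
          calc (i : G) * j = (i : G) * ((i : G) * j * i) := by rw [← e]
            _ = j * i := by rw [← mul_assoc, ← mul_assoc, hi2, one_mul]
        have he2 : (i : G) * j * ((i : G) * j) = 1 := by
          nth_rw 2 [hij]
          rw [mul_assoc, ← mul_assoc (j : G), hj2, one_mul, hi2]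
        rw [← hzeq he2]
        exact hz0
      exact ⟨Sum.inl ⟨⟨z, D.inv_conj_centA hA hz0 hzo⟩, ⟨(i, j), hiz, hne, hjz⟩⟩, rfl⟩
    · have hne : (j : G) ≠ z := by
        intro h
        have hij : (i : G) * j = j * i := by rw [h]; exact hiz
        have he2 : (i : G) * j * ((i : G) * j) = 1 := by
          nth_rw 2 [hij]
          rw [mul_assoc, ← mul_assoc (j : G), hj2, one_mul, hi2]
        have e := hzeq he2
        rw [← h] at e
        exact Cfsg.Lib.InvolCalc.ne_one_of_order_two hio (mul_eq_right.1 e.symm)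
      exact ⟨Sum.inr ⟨⟨z, houter z hzX hz0 hzo⟩, ⟨(i, j), hiz, hjz, hne⟩⟩, rfl⟩
  choose q hq' using hfib
  have hpairs := card_le_of_fibres hT hU q fun x y h => by rw [← hq' x, ← hq' y, h]
  rw [Nat.card_prod] at hpairs
  have hN0le : Nat.card I₀ ≤ 2 * (r * b) + r * r := by
    have h1 : Nat.card I₀ * Nat.card I₁ ≤ Nat.card I₁ * (2 * (r * b) + r * r) := by
      calc Nat.card I₀ * Nat.card I₁ ≤ Nat.card I₀ * (2 * b * (2 * a)) + Nat.card I₁ * (r * r) := hpairs
        _ = Nat.card I₁ * (2 * (r * b) + r * r) := by linarith [hN0, hN1]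
    haveI : Nonempty I₁ := ⟨⟨w * s, 1, one_mem _, by group⟩⟩
    rw [mul_comm] at h1
    exact Nat.le_of_mul_le_mul_left h1 Nat.card_pos
  -- the involutions in `L` times the four-group
  let rr : Fin 3 → G := ![w * w, s, w * w * s]
  have hrr : ∀ k, rr k ∈ X₀ ∧ orderOf (rr k) = 2 ∧ rr k ∈ (S : Subgroup G) := by
    intro k
    fin_cases k
    · exact ⟨D.t_centA, D.toData.t_order, mul_mem D.wmem D.wmem⟩
    · exact ⟨D.s_centA, D.hs, D.smem⟩
    · exact ⟨D.ts_centA, D.toData.ts_order, mul_mem (mul_mem D.wmem D.wmem) D.smem⟩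
  haveI hfin : ∀ k, Finite (inverted L (rr k)) := fun k => Subtype.finite
  have hr3 : ∀ k l, rr k * rr l ∈ L → k = l := by
    intro k l h
    have h2 : (rr k * rr l) * (rr k * rr l) = 1 := by
      have c := fun x (hx : x ∈ (S : Subgroup G) ⊓ X₀) => D.S_centA hA hx.1 hx.2
      rcases c _ ⟨mul_mem (hrr k).2.2 (hrr l).2.2, mul_mem (hrr k).1 (hrr l).1⟩ with e | e | e | e <;>
        rw [e]
      exacts [mul_one 1, hw4, hss, htsq]
    have h1 := odd_sq_eq_one (Nat.not_even_iff_odd.1 fun e => hodd _ h (even_iff_two_dvd.1 e)) h2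
    have h3 : rr k = rr l := by
      rw [eq_inv_of_mul_eq_one_left h1, Cfsg.Lib.InvolCalc.inv_of_order_two (hrr l).2.1]
    have n1 : w * w ≠ s := fun e => D.toData.s_not_zp (e ▸ mul_mem (mem_zpowers w) (mem_zpowers w))
    have n2 : w * w ≠ w * w * s := fun e =>
      Cfsg.Lib.InvolCalc.ne_one_of_order_two D.hs (mul_eq_left.1 e.symm)
    have n3 : s ≠ w * w * s := fun e => D.toData.t_ne (mul_eq_right.1 e.symm)
    fin_cases k <;> fin_cases l <;>
      first
        | rfl
        | exact absurd h3 n1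
        | exact absurd h3.symm n1
        | exact absurd h3 n2
        | exact absurd h3.symm n2
        | exact absurd h3 n3
        | exact absurd h3.symm n3
  have hmk : ∀ (k : Fin 3) (x : inverted L (rr k)), ∃ h ∈ X₀, x.1 * rr k = h * (w * w) * h⁻¹ := by
    rintro k ⟨x, hx, hxi⟩
    refine D.inv_conj_centA hA (mul_mem (hLX hx) (hrr k).1) (two_of_sq ?_ fun e => ?_)
    · rw [Cfsg.Lib.InvolCalc.inv_of_order_two (hrr k).2.1] at hxi
      rw [show x * rr k * (x * rr k) = x * (rr k * x * rr k) by group, hxi, mul_inv_cancel]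
    · have e' : rr k = x⁻¹ := eq_inv_of_mul_eq_one_right e
      refine hodd x hx ?_
      rw [← orderOf_inv, ← e', (hrr k).2.1]
  let F : (Σ k, inverted L (rr k)) → I₀ := fun p => ⟨p.2.1 * rr p.1, hmk p.1 p.2⟩
  have hF : Function.Injective F := by
    rintro ⟨k, x, hx, hxi⟩ ⟨l, y, hy, hyi⟩ h
    have h' : x * rr k = y * rr l := congrArg Subtype.val h
    have h3 : rr k * rr l ∈ L := by
      rw [show rr k * rr l = x⁻¹ * (x * rr k) * rr l by group, h',
        show x⁻¹ * (y * rr l) * rr l = x⁻¹ * y * (rr l * rr l) by group,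
        Cfsg.Lib.InvolCalc.sq_of_order_two (hrr l).2.1, mul_one]
      exact mul_mem (inv_mem hx) hy
    obtain rfl := hr3 k l h3
    obtain rfl := mul_right_cancel h'
    rfl
  have hFc : Nat.card (Σ k, inverted L (rr k)) = r * r + r * b + r * b := by
    rw [Nat.card_sigma, Fin.sum_univ_three]
    show Nat.card (inverted L (w * w)) + Nat.card (inverted L s) + Nat.card (inverted L (w * w * s)) = _
    rw [hr0, hjs, hjts, pow_two]
  have hFb : Function.Bijective F := hF.bijective_of_nat_card_le (by rw [hFc]; omega)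
  have hN0eq : Nat.card I₀ = r * r + r * b + r * b := by
    rw [← hFc]; exact (Nat.card_congr (Equiv.ofBijective F hFb)).symm
  -- the image of `W` under the cycle
  obtain ⟨c, hc, hct, -, hcs⟩ := D.exists_cycle hA
  have hmapB : ∀ v ∈ W ⊓ centralizer ({w * s} : Set G), c * v * c⁻¹ ∈ L := by
    rintro v hv
    have hsv := (D.inverted_iff hv.1).2 hv
    rw [D.toData.s_inv] at hsv
    have ho : orderOf (s * v) = 2 := by
      refine two_of_sq ?_ fun e => ?_
      · rw [show s * v * (s * v) = (s * v * s) * v by group, hsv, inv_mul_cancel]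
      · have e' : s = v⁻¹ := eq_inv_of_mul_eq_one_left e
        have h := D.mem_odd (inv_mem hv.1)
        rw [← e', D.hs] at h
        exact absurd h (by decide)
    have hmem : c * (s * v) * c⁻¹ ∈ X₀ :=
      mul_mem (mul_mem hc (mul_mem D.s_centA (D.W_le_centA hv.1))) (inv_mem hc)
    obtain ⟨⟨k, l, hl, hli⟩, hkl⟩ := hFb.2 ⟨_, D.inv_conj_centA hA hmem (by rw [orderOf_conj, ho])⟩
    have he : l * rr k = (w * w) * (c * v * c⁻¹) := by
      have := congrArg Subtype.val hkl
      rw [show (l : G) * rr k = c * (s * v) * c⁻¹ from this, ← hcs]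
      group
    refine mem_of_sq_mem (by rw [orderOf_conj]; exact D.mem_odd hv.1) ?_
    have he' : c * v * c⁻¹ = ((w * w) * l * (w * w)⁻¹) * ((w * w) * rr k) := by
      rw [show (w * w) * l * (w * w)⁻¹ * ((w * w) * rr k) = (w * w) * (l * rr k) by group, he,
        ← mul_assoc, hw4, one_mul]
    rw [he']
    set z := (w * w) * rr k
    have hzS : z ∈ (S : Subgroup G) := mul_mem (mul_mem D.wmem D.wmem) (hrr k).2.2
    have hz2 : z * z = 1 := by
      rcases D.S_centA hA hzS (mul_mem D.t_centA (hrr k).1) with e | e | e | e <;> rw [e]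
      exacts [mul_one 1, hw4, hss, htsq]
    set l' := (w * w) * l * (w * w)⁻¹
    have hl' : l' ∈ L := hSL _ (mul_mem D.wmem D.wmem) l hl
    rw [show l' * z * (l' * z) = l' * (z * l' * z⁻¹) * (z * z) by group, hz2, mul_one]
    exact mul_mem hl' (hSL z hzS l' hl')
  have hrb : b ≤ r := by
    have hle : a * b ≤ Nat.card (fixed L (w * w * s)) := by
      rw [ha, hb, D.card_AB]
      refine Nat.card_le_card_of_injective (fun x : W => (⟨c * x * c⁻¹, ?_, ?_⟩ : fixed L (w * w * s)))
        fun x y h => Subtype.ext (conj_inj c (congrArg Subtype.val h))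
      · obtain ⟨u, hu, v, hv, e⟩ := D.exists_mul x.2
        rw [e, show c * (u * v) * c⁻¹ = (c * u * c⁻¹) * (c * v * c⁻¹) by group,
          ← mem_centA.1 hc u hu.1 (mem_centralizer_singleton_iff.1 hu.2), mul_inv_cancel_right]
        exact mul_mem (hWL hu.1) (hmapB v hv)
      · rw [← hct]
        exact mem_centralizer_singleton_iff.2 (commute_conj c (D.mem_t x.2))
    rw [e1, hp, mul_comm r a] at hle
    exact Nat.le_of_mul_le_mul_left hle ha0
  refine ⟨hrb.trans hra, fun hab => ⟨X, ?_⟩⟩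
  have hre : r = a := le_antisymm hra (hab ▸ hrb)
  rw [hXc, ← hN0, hN0eq, hre, hab]
  ring

end

theorem balanced (hA : 1 < Nat.card ↥(W ⊓ centralizer ({s} : Set G)))
    (hB : 1 < Nat.card ↥(W ⊓ centralizer ({w * s} : Set G))) :
    Nat.card ↥(W ⊓ centralizer ({w * s} : Set G)) = Nat.card ↥(W ⊓ centralizer ({s} : Set G)) ∧
      ∃ X : Subgroup G, Nat.card X = 24 * Nat.card ↥(W ⊓ centralizer ({s} : Set G)) ^ 4 := by
  obtain ⟨h1, h2⟩ := D.compare hA hB
  obtain ⟨h3, -⟩ := D.swap.compare hB (by rw [D.card_B_swap]; exact hA)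
  rw [D.card_B_swap] at h3
  exact ⟨le_antisymm h1 h3, h2 (le_antisymm h1 h3)⟩

end Core

end Cfsg.Lib.SelfCentFour
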