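import Cfsg.Agent.SelfCentFour.Order
import Cfsg.Agent.SelfCentFour.Unbalanced
import Cfsg.Agent.SelfCentFour.PermBound
import Cfsg.Agent.SelfCentFour.Arith
import Cfsg.Agent.S0984

/-!
The simple groups with dihedral Sylow 2-subgroups of order eight in which an element of order four generates its
centraliser: `A₆`, `A₇` and `PSL(2,7)`.
-/

set_option autoImplicit false
set_option linter.unusedSectionVars false
set_option linter.style.haveILetI false

namespace Cfsg.Lib.SelfCentFour

open Subgroup

universe u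

variable {G : Type u} [Group G] [Finite G]

theorem small_fourth : ∀ a < 246, a ^ 4 ∣ 3632428800 → a % 2 = 1 → a = 1 ∨ a = 3 := by
  decide +kernel

namespace Core

variable {S : Sylow 2 G} {w s : G} {W : Subgroup G} (D : Core S w s W)
include D

theorem proper {H : Subgroup G} {k : ℕ} (hH : Nat.card H = k) (hk : Nat.card G ≠ k) : H ≠ ⊤ :=
  fun e => hk (by rw [← hH, e, card_top])

/-- There is no group of order 7560 here. -/
theorem not_five (hb : Nat.card ↥(W ⊓ centralizer ({w * s} : Set G)) = 1)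
    (ha : Nat.card ↥(W ⊓ centralizer ({s} : Set G)) = 5) (hn : Nat.card G = 7560) : False := by
  classical
  haveI := D.toData.simple
  haveI : Fact (Nat.Prime 5) := ⟨by norm_num⟩
  haveI : Fact (Nat.Prime 2) := ⟨Nat.prime_two⟩
  haveI : Fact (Nat.Prime 3) := ⟨Nat.prime_three⟩
  have hW : Nat.card W = 5 := by rw [← D.card_AB, hb, ha]
  have hA1 : 1 < Nat.card ↥(W ⊓ centralizer ({s} : Set G)) := by omega
  have hWA : W ⊓ centralizer ({s} : Set G) = W := eq_of_le_of_card_ge inf_le_left (by omega)
  have hX : centA W s = centralizer (W : Set G) := by rw [centA, hWA]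
  haveI : IsCyclic W := isCyclic_of_prime_card hW
  -- the centraliser and the normaliser of `W`
  set X₀ := centA W s with hX₀
  set N := normalizer (W : Set G) with hN
  have hXN : X₀ ≤ N := hX ▸ centralizer_le_normalizer _
  obtain ⟨c, hc, hct, hcts, hcs⟩ := D.exists_cycle hA1
  have h3c : 3 ∣ orderOf c := by
    by_contra h
    have hpow : c * c * c * (w * w) * (c * c * c)⁻¹ = w * w := by
      rw [show c * c * c * (w * w) * (c * c * c)⁻¹ = c * (c * (c * (w * w) * c⁻¹) * c⁻¹) * c⁻¹ by group,
        hct, hcts, hcs]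
    have hm : c ∈ centralizer ({w * w} : Set G) := by
      obtain ⟨k, hk⟩ := exists_pow_eq_self_of_coprime
        (show Nat.Coprime 3 (orderOf c) from (Nat.prime_three.coprime_iff_not_dvd).2 h)
      rw [← hk]
      refine pow_mem ?_ k
      rw [pow_succ, pow_succ, pow_one, mem_centralizer_singleton_iff]
      exact mul_inv_eq_iff_eq_mul.1 hpow
    rw [mem_centralizer_singleton_iff.1 hm, mul_inv_cancel_right] at hct
    exact Cfsg.Lib.InvolCalc.ne_one_of_order_two D.hs (mul_eq_left.1 hct.symm)
  have hco : orderOf c ∣ Nat.card X₀ := by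
    rw [← Subgroup.orderOf_mk c hc]; exact orderOf_dvd_natCard _
  have hI := card_orbit X₀ (w * w)
  rw [D.card_cent_t hA1, hW] at hI
  have h60 : 60 ∣ Nat.card X₀ := by
    have h20 : 20 ∣ Nat.card X₀ := ⟨_, by rw [← hI, mul_comm]⟩
    have h3 : 3 ∣ Nat.card X₀ := h3c.trans hco
    omega
  have hws : w * s ∈ N := by
    refine mem_normalizer_iff.2 fun x => ⟨fun hx => D.conj_mem D.ws_t hx, fun hx => ?_⟩
    have hwi := Cfsg.Lib.InvolCalc.inv_of_order_two D.toData.ws_order
    have h := D.conj_mem D.ws_t hx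
    rwa [show w * s * (w * s * x * (w * s)⁻¹) * (w * s)⁻¹ = (w * s * (w * s)) * x * (w * s * (w * s))⁻¹ by group,
      Cfsg.Lib.InvolCalc.sq_of_order_two D.toData.ws_order, one_mul, inv_one, mul_one] at h
  have hwsX : w * s ∉ X₀ := fun h => D.no_four hA1
    (show w ∈ centA W s by simpa [mul_assoc, D.toData.ss] using mul_mem h D.s_centA) D.hw
  -- the index of `C(W)` in its normaliser
  have hrel : X₀.relIndex N ∣ 4 := by
    have hker : (Subgroup.normalizerMonoidHom W).ker = X₀.subgroupOf N := by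
      rw [Subgroup.normalizerMonoidHom_ker, hX]
    show (X₀.subgroupOf N).index ∣ 4
    rw [← hker, index_ker]
    refine (card_subgroup_dvd_card _).trans ?_
    rw [IsCyclic.card_mulAut, hW, Nat.totient_prime (by norm_num)]
  have hNX : Nat.card X₀ * X₀.relIndex N = Nat.card N := by
    rw [← Nat.card_congr (subgroupOfEquivOfLe hXN).toEquiv]
    exact (X₀.subgroupOf N).card_mul_index
  have hrel1 : X₀.relIndex N ≠ 1 := fun h => hwsX (relIndex_eq_one.1 h hws)
  -- the Sylow five subgroups
  let P : Sylow 5 G := Sylow.ofCard W (by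
    rw [hW, hn, show (7560 : ℕ) = 5 * 1512 by norm_num, Nat.factorization_mul (by norm_num) (by norm_num),
      Finsupp.add_apply, Nat.Prime.factorization_self (by norm_num),
      Nat.factorization_eq_zero_of_not_dvd (by norm_num)]
    norm_num)
  have hidx : N.index = Nat.card (Sylow 5 G) := P.card_eq_index_normalizer.symm
  have hmod : N.index % 5 = 1 := by rw [hidx]; exact card_sylow_modEq_one 5 G
  have hN1 : N.index ≠ 1 := fun h => by
    have hn : W.Normal := normalizer_eq_top_iff.1 (index_eq_one.1 h)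
    rcases hn.eq_bot_or_eq_top with e | e
    · rw [e, card_bot] at hW; omega
    · rw [e, card_top] at hW; omega
  have hmulN := N.card_mul_index
  rw [hn] at hmulN
  have hN120 : 120 ∣ Nat.card N := by
    rw [← hNX]
    have h2 : 2 ∣ X₀.relIndex N := by
      have hle : X₀.relIndex N ≤ 4 := Nat.le_of_dvd (by norm_num) hrel
      interval_cases h : X₀.relIndex N <;> omega
    obtain ⟨i, hi⟩ := h60
    obtain ⟨j, hj⟩ := h2
    exact ⟨i * j, by rw [hi, hj]; ring⟩
  have hN360 : Nat.card N = 360 := by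
    obtain ⟨i, hi⟩ := hN120
    have hmul : i * N.index = 63 := by rw [hi] at hmulN; linarith
    have hle : N.index ≤ 63 := Nat.le_of_dvd (by norm_num) ⟨i, by rw [mul_comm]; exact hmul.symm⟩
    have hd : N.index ∣ 63 := ⟨i, by rw [mul_comm]; exact hmul.symm⟩
    have h21 : N.index = 21 := by
      interval_cases h : N.index <;> omega
    rw [h21] at hmulN
    omega
  have hX180 : Nat.card X₀ = 180 := by
    have h8 := D.not_eight hA1
    have hle : X₀.relIndex N ≤ 4 := Nat.le_of_dvd (by norm_num) hrel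
    rw [hN360] at hNX
    norm_num at h8
    interval_cases h : X₀.relIndex N <;> omega
  have hI9 : Nat.card {g : G // ∃ h ∈ X₀, g = h * (w * w) * h⁻¹} = 9 := by omega
  -- the normaliser of the four-group inside `C(W)`
  set V := (S : Subgroup G) ⊓ centralizer ({s} : Set G) with hV
  have hVmem : ∀ d ∈ V, d = 1 ∨ d = w * w ∨ d = s ∨ d = w * w * s := fun d hd =>
    D.toData.S_comm_s hd.1 (mem_centralizer_singleton_iff.1 hd.2)
  have hVX : V ≤ X₀ := by
    intro d hd
    rcases hVmem d hd with e | e | e | e <;> rw [e]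
    exacts [one_mem _, D.t_centA, D.s_centA, D.ts_centA]
  set M := X₀ ⊓ normalizer (V : Set G) with hM
  have hVM : V ≤ M := le_inf hVX le_normalizer
  have hM4 : 4 ∣ Nat.card M := D.card_V ▸ card_dvd_of_le hVM
  have hWM : W ≤ M := le_inf (hX ▸ fun x hx => mem_centralizer_iff.2 fun y hy => D.comm hy hx) fun x hx => by
    refine centralizer_le_normalizer _ (mem_centralizer_iff.2 fun d hd => ?_)
    have hxs : x * s = s * x := mem_centralizer_singleton_iff.1 ((hWA.symm ▸ hx : x ∈ W ⊓ _).2)
    rcases hVmem d hd with e | e | e | e <;> rw [e]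
    · simp
    · exact (D.mem_t hx).symm
    · exact hxs.symm
    · rw [mul_assoc, ← hxs, ← mul_assoc, ← D.mem_t hx, mul_assoc]
  have hM5 : 5 ∣ Nat.card M := hW ▸ card_dvd_of_le hWM
  have hcM : c ∈ M := by
    refine ⟨hc, mem_normalizer_iff.2 fun d => ?_⟩
    have key : ∀ d ∈ V, c * d * c⁻¹ ∈ V := by
      intro d hd
      have hs' : s ∈ V := ⟨D.smem, mem_centralizer_singleton_iff.2 rfl⟩
      have ht' : w * w ∈ V := ⟨mul_mem D.wmem D.wmem, mem_centralizer_singleton_iff.2 D.toData.ts⟩
      rcases hVmem d hd with e | e | e | e <;> rw [e]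
      · simp
      · rw [hct]; exact mul_mem ht' hs'
      · rw [hcs]; exact ht'
      · rw [hcts]; exact hs'
    refine ⟨key d, fun h => ?_⟩
    let f : V → V := fun x => ⟨c * x * c⁻¹, key x x.2⟩
    have hf : Function.Injective f := fun x y h => Subtype.ext (conj_inj c (congrArg Subtype.val h))
    obtain ⟨x, hx⟩ := (Finite.injective_iff_surjective.1 hf) ⟨_, h⟩
    have := conj_inj c (congrArg Subtype.val hx)
    exact this ▸ x.2
  have hM3 : 3 ∣ Nat.card M := by
    refine h3c.trans ?_
    rw [← Subgroup.orderOf_mk (H := M) c hcM]; exact orderOf_dvd_natCard _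
  set M' := M.subgroupOf X₀ with hM'
  have hM'c : Nat.card M' = Nat.card M := Nat.card_congr (subgroupOfEquivOfLe (inf_le_left : M ≤ X₀)).toEquiv
  have hidx3 : M'.index ∣ 3 := by
    have h := M'.card_mul_index
    rw [hM'c, hX180] at h
    obtain ⟨i, hi⟩ : 60 ∣ Nat.card M := by omega
    rw [hi] at h
    exact ⟨i, by linarith⟩
  -- the core
  set K := M'.normalCore with hK
  have hKidx : K.index ∣ 6 := by
    rw [hK, normalCore_eq_ker, index_ker]
    refine (card_subgroup_dvd_card _).trans ?_
    rw [Nat.card_perm, ← index_eq_card]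
    have := Nat.le_of_dvd (by norm_num) hidx3
    exact Nat.factorial_dvd_factorial this
  have hKeven : 2 ∣ Nat.card K := by
    have h := K.card_mul_index
    rw [hX180] at h
    obtain ⟨i, hi⟩ := hKidx
    exact ⟨15 * i, by nlinarith⟩
  obtain ⟨⟨z, hz⟩, hzo⟩ := exists_prime_orderOf_dvd_card' (G := K) 2 hKeven
  rw [Subgroup.orderOf_mk] at hzo
  obtain ⟨e, he, hze⟩ := D.inv_conj_centA hA1 z.2 (by rw [← Subgroup.orderOf_coe] at hzo; exact hzo)
  have hall : ∀ g : {g : G // ∃ h ∈ X₀, g = h * (w * w) * h⁻¹}, (g : G) ∈ V := by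
    rintro ⟨g, h, hh, rfl⟩
    have hgK : (⟨h * e⁻¹, mul_mem hh (inv_mem he)⟩ : X₀) * z * (⟨h * e⁻¹, mul_mem hh (inv_mem he)⟩ : X₀)⁻¹ ∈ K :=
      (M'.normalCore_normal).conj_mem z hz _
    have hgM : h * (w * w) * h⁻¹ ∈ M := by
      have h' := mem_subgroupOf.1 (M'.normalCore_le hgK)
      simp only [Subgroup.coe_mul, Subgroup.coe_inv] at h'
      rw [hze] at h'
      convert h' using 1
      group
    set g := h * (w * w) * h⁻¹ with hg
    have hgo : orderOf g = 2 := by rw [hg, orderOf_conj, D.toData.t_order]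
    have hp : IsPGroup 2 (zpowers g ⊔ V : Subgroup G) :=
      IsPGroup.to_sup_of_normal_right'
        (IsPGroup.of_card (n := 1) (by rw [Nat.card_zpowers, hgo, pow_one]))
        (IsPGroup.of_card (n := 2) (by rw [D.card_V]; norm_num))
        (zpowers_le.2 hgM.2)
    have hle : zpowers g ⊔ V ≤ X₀ := sup_le (zpowers_le.2 hgM.1) hVX
    have hVeq : V = zpowers g ⊔ V := by
      refine eq_of_le_of_card_ge le_sup_right ?_
      obtain ⟨k, hk⟩ := IsPGroup.iff_card.1 hp
      have hd := card_dvd_of_le hle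
      rw [hk] at hd
      rw [hk, D.card_V, show (4 : ℕ) = 2 ^ 2 by norm_num]
      refine Nat.pow_le_pow_right (by norm_num) ?_
      by_contra hk3
      exact D.not_eight hA1 ((pow_dvd_pow 2 (by omega)).trans hd)
    rw [hVeq]
    exact mem_sup_left (mem_zpowers g)
  have h4 : Nat.card {g : G // ∃ h ∈ X₀, g = h * (w * w) * h⁻¹} ≤ Nat.card V :=
    Nat.card_le_card_of_injective (fun g => (⟨g, hall g⟩ : V)) fun x y h =>
      Subtype.ext (congrArg (fun v : V => (v : G)) h)
  rw [hI9, D.card_V] at h4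
  omega

/-- One of the two fixed groups is trivial. -/
theorem trivial_or : Nat.card ↥(W ⊓ centralizer ({s} : Set G)) = 1 ∨
    Nat.card ↥(W ⊓ centralizer ({w * s} : Set G)) = 1 := by
  classical
  haveI := D.toData.simple
  by_contra! h
  have hA : 1 < Nat.card ↥(W ⊓ centralizer ({s} : Set G)) := by
    have := (Nat.card_pos : 0 < Nat.card ↥(W ⊓ centralizer ({s} : Set G)))
    omega
  have hB : 1 < Nat.card ↥(W ⊓ centralizer ({w * s} : Set G)) := by
    have := (Nat.card_pos : 0 < Nat.card ↥(W ⊓ centralizer ({w * s} : Set G)))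
    omega
  have hodd := D.odd_A
  obtain ⟨hab, X, hXc⟩ := D.balanced hA hB
  obtain ⟨F, U, V, hF, hF1, hU, hV, hUV, h1, h2⟩ := D.degrees
  rw [hab] at h1 h2
  set a := Nat.card ↥(W ⊓ centralizer ({s} : Set G)) with ha
  have ha3 : 3 ≤ a := by
    obtain ⟨k, hk⟩ := hodd
    omega
  have hdvd : 24 * a ^ 4 ∣ Nat.card G := hXc ▸ card_subgroup_dvd_card X
  have hmul := X.card_mul_index
  rw [hXc] at hmul
  have ha4 : 0 < a ^ 4 := by positivity
  rcases arith_equal (by omega) hdvd hF hF1 hU hUV h1 h2 with hn | hn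
  · have hidx : X.index = 7 := by
      rw [hn] at hmul
      exact Nat.eq_of_mul_eq_mul_left (show 0 < 24 * a ^ 4 by positivity) (by rw [hmul]; ring)
    have hne : X ≠ ⊤ := fun e => by rw [e, index_top] at hidx; omega
    have h7 := card_dvd_index_factorial hne
    rw [hidx, hn, show Nat.factorial 7 = 168 * 30 by norm_num [Nat.factorial]] at h7
    have h30 := Nat.le_of_dvd (by norm_num) (Nat.dvd_of_mul_dvd_mul_left (by norm_num) h7)
    have : 3 ^ 4 ≤ a ^ 4 := Nat.pow_le_pow_left ha3 4
    omega
  · have hidx : X.index = 15 := by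
      rw [hn] at hmul
      exact Nat.eq_of_mul_eq_mul_left (show 0 < 24 * a ^ 4 by positivity) (by rw [hmul]; ring)
    have hne : X ≠ ⊤ := fun e => by rw [e, index_top] at hidx; omega
    have h15 := card_dvd_index_factorial hne
    rw [hidx, hn, show Nat.factorial 15 = 360 * 3632428800 by norm_num [Nat.factorial]] at h15
    have hd := Nat.dvd_of_mul_dvd_mul_left (by norm_num) h15
    have hle := Nat.le_of_dvd (by norm_num) hd
    have hlt : a < 246 := by
      by_contra hc
      have : 246 ^ 4 ≤ a ^ 4 := Nat.pow_le_pow_left (by omega) 4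
      omega
    rcases small_fourth a hlt hd (Nat.odd_iff.1 hodd) with e | e
    · omega
    · exact no_index_fifteen (by rw [hn, e]; norm_num) X hidx

theorem main_one (hb : Nat.card ↥(W ⊓ centralizer ({w * s} : Set G)) = 1) :
    Nonempty (G ≃* alternatingGroup (Fin 6)) ∨ Nonempty (G ≃* alternatingGroup (Fin 7)) ∨
    ∃ (F : Type) (_ : Field F) (_ : Fintype F), Fintype.card F = 7 ∧
      Nonempty (G ≃* Matrix.ProjectiveSpecialLinearGroup (Fin 2) F) := by
  haveI := D.toData.simple
  obtain ⟨F, U, V, hF, hF1, hU, hV, hUV, h1, h2⟩ := D.degrees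
  rw [hb] at h1 h2
  push_cast at h1 h2
  simp only [mul_one, one_pow] at h1 h2
  set m := Nat.card ↥(W ⊓ centralizer ({s} : Set G)) with hm
  rcases arith_one D.odd_A hF hF1 hU hV hUV h1 h2 with e | ⟨-, e⟩ | ⟨e5, e⟩
  · have hW : Nat.card W = 1 := by rw [← D.card_AB, e, hb]
    have hC : Nat.card (centralizer ({w * w} : Set G)) = 8 := by rw [D.card, hW]
    have hset : Cfsg.Lib.DihedralCent.Setup (w * w) w s :=
      { two := fun H hH => D.toData.no_index_two H (normal_of_index_eq_two hH) hH
        hz := D.toData.t_order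
        hC := hC
        syl := ⟨S, eq_of_le_of_card_ge D.toData.S_le (by rw [hC, D.toData.card_S])⟩
        hrz := rfl
        hu := D.hs
        huz := D.s_t
        hur := D.hsw }
    rcases Cfsg.Lib.DihedralCent.main hset with h | h
    · exact Or.inl h
    · exact Or.inr (Or.inr h)
  · exact Or.inr (Or.inl (Cfsg.Agent.S0984.result e))
  · exact (D.not_five hb e5 e).elim

end Core

theorem main {S : Sylow 2 G} {w s : G} (D : Data S w s) :
    Nonempty (G ≃* alternatingGroup (Fin 6)) ∨ Nonempty (G ≃* alternatingGroup (Fin 7)) ∨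
    ∃ (F : Type) (_ : Field F) (_ : Fintype F), Fintype.card F = 7 ∧
      Nonempty (G ≃* Matrix.ProjectiveSpecialLinearGroup (Fin 2) F) := by
  obtain ⟨W, C⟩ := exists_Core D
  rcases C.trivial_or with h | h
  · exact C.swap.main_one (C.card_B_swap.trans h)
  · exact C.main_one h

end Cfsg.Lib.SelfCentFour
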