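import Cfsg.Agent.SelfCentFour.Basic
import Cfsg.Agent.PGroups.MaxClass
import Cfsg.Agent.S0204

/-!
An element of order four with centraliser of order four in a simple group: the Sylow 2-subgroups are dihedral of
order eight.
-/

set_option autoImplicit false
set_option linter.unusedSectionVars false
set_option linter.style.haveILetI false

namespace Cfsg.Lib.SelfCentFour

open Subgroup

universe u

variable {G : Type u} [Group G] [Finite G]

/-- A Klein four subgroup, conjugated into a Sylow subgroup. -/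
theorem klein_in_sylow [IsSimpleGroup G] (hG : ¬ IsCyclic G) (S : Sylow 2 G) :
    ∃ x ∈ (S : Subgroup G), ∃ y ∈ (S : Subgroup G), orderOf x = 2 ∧ orderOf y = 2 ∧ x ≠ y := by
  haveI : Fact (Nat.Prime 2) := ⟨Nat.prime_two⟩
  obtain ⟨E, hE⟩ := Cfsg.Agent.S0204.result hG
  have hEc : Nat.card E = 4 := hE.card_four
  obtain ⟨c, -, hc⟩ := Cfsg.Lib.TwoFusion.exists_sylow_conj (H := ⊤) S le_top
    (IsPGroup.of_card (n := 2) (by rw [hEc]; norm_num) : IsPGroup 2 E) le_top
  haveI := hE
  have hsq : ∀ e ∈ E, e * e = 1 := fun e he =>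
    congrArg Subtype.val (IsKleinFour.mul_self (⟨e, he⟩ : E))
  haveI := Fintype.ofFinite E
  obtain ⟨p, q, r, hp, hq, hpq⟩ : ∃ p q : E, ∃ _ : True, p ≠ 1 ∧ q ≠ 1 ∧ p ≠ q := by
    obtain ⟨p, hp⟩ : ∃ p : E, p ≠ 1 := by
      haveI : Nontrivial E := Finite.one_lt_card_iff_nontrivial.1 (by omega)
      exact exists_ne 1
    by_contra! h
    classical
    have hsub : (Finset.univ : Finset E) ⊆ {1, p} := fun q _ => by
      simp only [Finset.mem_insert, Finset.mem_singleton]
      by_cases hq : q = 1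
      · exact Or.inl hq
      · exact Or.inr (h p q trivial hp hq).symm
    have h2 := (Finset.card_le_card hsub).trans Finset.card_le_two
    rw [Finset.card_univ, ← Nat.card_eq_fintype_card, hEc] at h2
    omega
  refine ⟨_, hc p p.2, _, hc q q.2, ?_, ?_, fun e => hpq (Subtype.ext (conj_inj c e))⟩
  · rw [orderOf_conj]
    exact two_of_sq (hsq p p.2) fun e => hp (Subtype.ext e)
  · rw [orderOf_conj]
    exact two_of_sq (hsq q q.2) fun e => hq (Subtype.ext e)

/-- The cyclic subgroup of index two in the Sylow subgroup. -/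
theorem exists_rotation (S : Sylow 2 G) {n : ℕ} (hn : Nat.card (S : Subgroup G) = 2 ^ n) (hn3 : 3 ≤ n)
    {w : G} (hwS : w ∈ (S : Subgroup G)) (hw : orderOf w = 4)
    (hC : ∀ x : G, x * w = w * x → x ∈ zpowers w) :
    ∃ a ∈ (S : Subgroup G), orderOf a = 2 ^ (n - 1) ∧
      ∀ x ∈ (S : Subgroup G), x ∉ zpowers a → (x * x) * (x * x) = 1 ∧
        ∀ y ∈ (S : Subgroup G), y ∉ zpowers a → x * y ∈ zpowers a := by
  haveI : Fact (Nat.Prime 2) := ⟨Nat.prime_two⟩
  haveI : Group.IsNilpotent (S : Subgroup G) := S.2.isNilpotent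
  set w' : (S : Subgroup G) := ⟨w, hwS⟩
  have hA4 : Nat.card (zpowers w') = 2 ^ 2 := by
    rw [Nat.card_zpowers, Subgroup.orderOf_mk, hw]; norm_num
  have hself : centralizer ((zpowers w' : Subgroup (S : Subgroup G)) : Set (S : Subgroup G)) = zpowers w' := by
    refine le_antisymm (fun g hg => ?_) fun g hg => ?_
    · have h1 := congrArg Subtype.val (mem_centralizer_iff.1 hg w' (mem_zpowers w'))
      obtain ⟨i, hi⟩ := mem_zpowers_iff.1 (hC g h1.symm)
      exact mem_zpowers_iff.2 ⟨i, Subtype.ext (by rw [coe_zpow]; exact hi)⟩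
    · obtain ⟨i, rfl⟩ := mem_zpowers_iff.1 hg
      refine mem_centralizer_iff.2 fun y hy => ?_
      obtain ⟨j, rfl⟩ := mem_zpowers_iff.1 hy
      exact ((Commute.refl w').zpow_zpow j i).eq
  have hc := Cfsg.Lib.MaxClass.of_self_centralizing (p := 2) n _ hn _ hA4 hself
  obtain ⟨A, hA, hi⟩ := Cfsg.Lib.MaxClass.exists_cyclic_index_two n _ hn hn3 hc
  obtain ⟨-, hout⟩ := Cfsg.Lib.MaxClass.outside hn hn3 hc hA hi
  obtain ⟨hZ, -, -⟩ := Cfsg.Lib.MaxClass.center_facts n _ hn hn3 hc
  obtain ⟨g, hg⟩ := hA.exists_generator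
  have hAeq : A = zpowers (g : (S : Subgroup G)) := by
    refine le_antisymm (fun x hx => ?_) (zpowers_le.2 g.2)
    obtain ⟨i, hi'⟩ := mem_zpowers_iff.1 (hg ⟨x, hx⟩)
    exact mem_zpowers_iff.2 ⟨i, by rw [← coe_zpow, hi']⟩
  have hAc : Nat.card A = 2 ^ (n - 1) := by
    have h := A.card_mul_index
    rw [hi, hn, show n = n - 1 + 1 by omega, pow_succ] at h
    exact Nat.eq_of_mul_eq_mul_right two_pos h
  have hmem : ∀ x : (S : Subgroup G), (x : G) ∈ zpowers (((g : (S : Subgroup G))) : G) ↔ x ∈ A := by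
    intro x
    refine ⟨fun h => ?_, fun h => ?_⟩
    · obtain ⟨i, hi'⟩ := mem_zpowers_iff.1 h
      have e : ((g : (S : Subgroup G))) ^ i = x := Subtype.ext (by rw [coe_zpow]; exact hi')
      exact e ▸ zpow_mem g.2 i
    · obtain ⟨i, hi'⟩ := mem_zpowers_iff.1 (hAeq.le h)
      exact mem_zpowers_iff.2 ⟨i, by rw [← coe_zpow, hi']⟩
  refine ⟨((g : (S : Subgroup G)) : G), (g : (S : Subgroup G)).2, ?_, fun x hx hxa => ?_⟩
  · rw [Subgroup.orderOf_coe, Subgroup.orderOf_coe, ← hAc]
    exact orderOf_eq_card_of_forall_mem_zpowers hg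
  · have hxA : (⟨x, hx⟩ : (S : Subgroup G)) ∉ A := fun h => hxa ((hmem _).2 h)
    refine ⟨?_, fun y hy hya => (hmem ⟨x * y, mul_mem hx hy⟩).2 ?_⟩
    · have h := pow_card_eq_one' (x := (⟨_, (hout _ hxA).1⟩ : center (S : Subgroup G)))
      rw [hZ] at h
      have h' := congrArg (fun z : center (S : Subgroup G) => ((z : (S : Subgroup G)) : G)) h
      simpa [pow_two] using h'
    · exact (mul_mem_iff_of_index_two hi (a := ⟨x, hx⟩) (b := ⟨y, hy⟩)).2
        (iff_of_false hxA fun h => hya ((hmem _).2 h))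

theorem no_large [IsSimpleGroup G] (hG : ¬ IsCyclic G) (S : Sylow 2 G) {n : ℕ}
    (hn : Nat.card (S : Subgroup G) = 2 ^ n) (hn4 : 4 ≤ n) {w : G} (hwS : w ∈ (S : Subgroup G))
    (hw : orderOf w = 4) (hC : ∀ x : G, x * w = w * x → x ∈ zpowers w) : False := by
  haveI : Fact (Nat.Prime 2) := ⟨Nat.prime_two⟩
  obtain ⟨a, haS, hao, hout⟩ := exists_rotation S hn (by omega) hwS hw hC
  have h8 : 8 ≤ orderOf a := by
    rw [hao]; exact le_trans (by norm_num) (Nat.pow_le_pow_right two_pos (show 3 ≤ n - 1 by omega))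
  have hnc : ∀ g : G, orderOf g = 4 → (∀ x : G, x * g = g * x → x ∈ zpowers g) → g ∉ zpowers a := by
    intro g hg hCg hga
    obtain ⟨i, rfl⟩ := mem_zpowers_iff.1 hga
    have := Nat.le_of_dvd (by omega)
      (orderOf_dvd_of_mem_zpowers (hCg a ((Commute.refl a).zpow_right i).eq))
    omega
  -- an involution outside the cyclic subgroup
  obtain ⟨p, hp, q, hq, hpo, hqo, hpq⟩ := klein_in_sylow hG S
  have hcyc : ∀ x y : G, x ∈ zpowers a → y ∈ zpowers a → orderOf x = 2 → orderOf y = 2 → x = y := by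
    intro x y hx hy hxo hyo
    haveI : IsCyclic (zpowers a) := inferInstance
    classical
    haveI := Fintype.ofFinite (zpowers a)
    by_contra hne
    have hsub : ({1, ⟨x, hx⟩, ⟨y, hy⟩} : Finset (zpowers a)) ⊆
        Finset.univ.filter (fun z : zpowers a => z ^ 2 = 1) := by
      intro z hz
      simp only [Finset.mem_insert, Finset.mem_singleton] at hz
      refine Finset.mem_filter.2 ⟨Finset.mem_univ _, ?_⟩
      rcases hz with rfl | rfl | rfl
      · exact one_pow 2
      · exact Subtype.ext (by push_cast; rw [← hxo]; exact pow_orderOf_eq_one x)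
      · exact Subtype.ext (by push_cast; rw [← hyo]; exact pow_orderOf_eq_one y)
    have h3 : ({1, ⟨x, hx⟩, ⟨y, hy⟩} : Finset (zpowers a)).card = 3 := by
      refine Finset.card_eq_three.2 ⟨_, _, _, fun e => ?_, fun e => ?_, fun e => hne (congrArg Subtype.val e), rfl⟩
      · have : x = 1 := (congrArg Subtype.val e).symm
        rw [this, orderOf_one] at hxo; omega
      · have : y = 1 := (congrArg Subtype.val e).symm
        rw [this, orderOf_one] at hyo; omega
    have := (h3 ▸ Finset.card_le_card hsub).trans (IsCyclic.card_pow_eq_one_le two_pos)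
    omega
  obtain ⟨u, huS, hua, huo⟩ : ∃ u ∈ (S : Subgroup G), u ∉ zpowers a ∧ orderOf u = 2 := by
    by_cases h : p ∈ zpowers a
    · exact ⟨q, hq, fun hq' => hpq (hcyc p q h hq' hpo hqo), hqo⟩
    · exact ⟨p, hp, h, hpo⟩
  have huu := Cfsg.Lib.InvolCalc.sq_of_order_two huo
  have hui := Cfsg.Lib.InvolCalc.inv_of_order_two huo
  -- the squares
  set Q := zpowers (a * a) with hQ
  have hQle : Q ≤ zpowers a := zpowers_le.2 (mul_mem (mem_zpowers a) (mem_zpowers a))
  have hpar : ∀ x ∈ zpowers a, x ∈ Q ∨ x * a⁻¹ ∈ Q := by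
    intro x hx
    obtain ⟨i, rfl⟩ := mem_zpowers_iff.1 hx
    rcases Int.even_or_odd i with ⟨j, rfl⟩ | ⟨j, rfl⟩
    · exact Or.inl (mem_zpowers_iff.2 ⟨j, by rw [← zpow_two, ← zpow_mul, two_mul]⟩)
    · exact Or.inr (mem_zpowers_iff.2 ⟨j, by rw [← zpow_two, ← zpow_mul]; group⟩)
  have hinvol : ∀ x ∈ zpowers a, x * x = 1 → x ∈ Q := by
    intro x hx h2
    obtain ⟨i, rfl⟩ := mem_zpowers_iff.1 hx
    rw [← zpow_add] at h2
    have hd := orderOf_dvd_iff_zpow_eq_one.2 h2
    rw [hao, show n - 1 = n - 3 + 2 by omega, pow_add] at hd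
    obtain ⟨k, hk⟩ := hd
    push_cast at hk
    exact mem_zpowers_iff.2 ⟨2 ^ (n - 3) * k, by
      rw [← zpow_two, ← zpow_mul]; congr 1; linarith⟩
  have haQ : a ∉ Q := by
    intro h
    obtain ⟨j, hj⟩ := mem_zpowers_iff.1 h
    have h1 : a ^ (2 * j - 1) = 1 := by
      rw [zpow_sub, zpow_one, zpow_mul, zpow_two, hj, mul_inv_cancel]
    have hd := orderOf_dvd_iff_zpow_eq_one.2 h1
    rw [hao] at hd
    have h2 : (2 : ℤ) ∣ 2 * j - 1 := dvd_trans (by push_cast; exact dvd_pow_self 2 (by omega)) hd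
    omega
  -- conjugation by `u`
  have hux : ∀ x ∈ (S : Subgroup G), x ∉ zpowers a → x * u ∈ zpowers a := fun x hx hxa =>
    (hout x hx hxa).2 u huS hua
  have hφ : ∀ x ∈ zpowers a, x * u ∉ zpowers a ∧ x * u ∈ (S : Subgroup G) := fun x hx =>
    ⟨fun h => hua (((zpowers a).mul_mem_cancel_left hx).1 h), mul_mem (zpowers_le.2 haS hx) huS⟩
  have hconj : ∀ x ∈ zpowers a, u * x * u ∈ zpowers a := by
    intro x hx
    obtain ⟨h1, h2⟩ := hφ x⁻¹ (inv_mem hx)
    have h := (hout u huS hua).2 _ h2 h1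
    have e : u * x * u = (u * (x⁻¹ * u))⁻¹ := by
      rw [mul_inv_rev, mul_inv_rev, inv_inv, hui]
    rw [e]
    exact inv_mem h
  have hcomm : ∀ x y : G, x ∈ zpowers a → y ∈ zpowers a → x * y = y * x := by
    intro x y hx hy
    obtain ⟨i, rfl⟩ := mem_zpowers_iff.1 hx
    obtain ⟨j, rfl⟩ := mem_zpowers_iff.1 hy
    exact ((Commute.refl a).zpow_zpow i j).eq
  have hφ2 : ∀ x ∈ zpowers a, (x * u * (x * u)) * (x * u * (x * u)) = 1 := fun x hx =>
    (hout _ (hφ x hx).2 (hφ x hx).1).1
  have hQu : ∀ x ∈ Q, x * u * (x * u) = 1 := by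
    intro x hx
    obtain ⟨j, rfl⟩ := mem_zpowers_iff.1 hx
    have hy : a ^ j ∈ zpowers a := zpow_mem (mem_zpowers a) j
    have e : (a * a) ^ j = a ^ j * a ^ j := (Commute.refl a).mul_zpow j
    rw [e, ← hφ2 _ hy]
    set y := a ^ j with hyd
    have hc := hcomm y (u * y * u) hy (hconj y hy)
    calc y * y * u * (y * y * u) = y * y * (u * y * (u * u) * y * u) := by rw [huu]; group
      _ = y * (y * (u * y * u)) * (u * y * u) := by group
      _ = y * ((u * y * u) * y) * (u * y * u) := by rw [hc]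
      _ = _ := by group
  have hQconj : ∀ x ∈ Q, u * x * u ∈ Q := fun x hx => by
    have h := hQu x hx
    rw [show x * u * (x * u) = x * (u * x * u) by group] at h
    rw [eq_inv_of_mul_eq_one_right h]
    exact inv_mem hx
  let K : Subgroup G :=
    { carrier := {x | x ∈ Q ∨ x * u ∈ Q}
      one_mem' := Or.inl (one_mem _)
      mul_mem' := by
        intro x y hx hy
        rcases hx with hx | hx <;> rcases hy with hy | hy
        · exact Or.inl (mul_mem hx hy)
        · exact Or.inr (by rw [mul_assoc]; exact mul_mem hx hy)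
        · refine Or.inr ?_
          rw [show x * y * u = x * u * (u⁻¹ * y * u) by group, hui]
          exact mul_mem hx (hQconj y hy)
        · refine Or.inl ?_
          rw [show x * y = x * u * (u⁻¹ * (y * u) * u⁻¹) by group, hui]
          exact mul_mem hx (hQconj _ hy)
      inv_mem' := by
        intro x hx
        rcases hx with hx | hx
        · exact Or.inl (inv_mem hx)
        · refine Or.inr ?_
          rw [show x⁻¹ * u = u * (x * u)⁻¹ * u by group]
          exact hQconj _ (inv_mem hx) }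
  have hK : ∀ x, x ∈ K ↔ x ∈ Q ∨ x * u ∈ Q := fun x => Iff.rfl
  have hKa : ∀ x ∈ zpowers a, x ∈ K ↔ x ∈ Q := fun x hx =>
    ⟨fun h => ((hK x).1 h).resolve_right fun h' => (hφ x hx).1 (hQle h'), fun h => (hK x).2 (Or.inl h)⟩
  have hKn : ∀ x, x ∉ zpowers a → (x ∈ K ↔ x * u ∈ Q) := fun x hx =>
    ⟨fun h => ((hK x).1 h).resolve_left fun h' => hx (hQle h'), fun h => (hK x).2 (Or.inr h)⟩
  have hKout : ∀ x ∈ K, x ∉ zpowers a → x * x = 1 := by
    intro x hxK hx
    have h := hQu _ ((hKn x hx).1 hxK)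
    rwa [mul_assoc x u u, huu, mul_one] at h
  have hKS : K ≤ (S : Subgroup G) := by
    intro x hx
    rcases (hK x).1 hx with h | h
    · exact zpowers_le.2 haS (hQle h)
    · have := mul_mem (zpowers_le.2 haS (hQle h)) huS
      rwa [mul_assoc, huu, mul_one] at this
  have hw1 : w * w ≠ 1 := fun h => by
    have := Nat.le_of_dvd two_pos (orderOf_dvd_of_pow_eq_one (show w ^ 2 = 1 by rw [pow_two, h]))
    omega
  have hwa : w ∉ zpowers a := hnc w hw hC
  have hwK : w ∉ K := fun h => hw1 (hKout w h hwa)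
  have hwsq : w * w ∈ Q := by
    refine hinvol _ ((hout w hwS hwa).2 w hwS hwa) ?_
    exact (hout w hwS hwa).1
  have hKinv : ∀ y ∈ (S : Subgroup G), y * y = 1 → y ∈ K := by
    intro y hy h2
    by_cases hya : y ∈ zpowers a
    · exact (hKa y hya).2 (hinvol y hya h2)
    refine (hKn y hya).2 ?_
    rcases hpar _ (hux y hy hya) with h | h
    · exact h
    · exfalso
      -- then every reflection is an involution
      have hua' : u * a * u ∈ zpowers a := hconj a (mem_zpowers a)
      obtain ⟨x, hx, hxy⟩ : ∃ x ∈ Q, y = x * a * u := ⟨_, h, by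
        rw [inv_mul_cancel_right, mul_assoc, huu, mul_one]⟩
      have hone : a * (u * a * u) = 1 := by
        have hx' := hQu x hx
        rw [← h2, hxy, show x * a * u * (x * a * u) = x * a * ((u * x * u) * (u * a * u)) by
          rw [show (u * x * u) * (u * a * u) = u * x * (u * u) * a * u by group, huu]; group]
        calc a * (u * a * u) = 1 * (a * (u * a * u)) := (one_mul _).symm
          _ = x * u * (x * u) * (a * (u * a * u)) := by rw [hx']
          _ = x * ((u * x * u) * a) * (u * a * u) := by group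
          _ = x * (a * (u * x * u)) * (u * a * u) := by
            rw [hcomm (u * x * u) a (hconj x (hQle hx)) (mem_zpowers a)]
          _ = _ := by group
      refine hw1 ?_
      rcases hpar _ (hux w hwS hwa) with h' | h'
      · exact hKout w ((hKn w hwa).2 h') hwa
      · obtain ⟨z, hz, hzw⟩ : ∃ z ∈ Q, w = z * a * u := ⟨_, h', by
          rw [inv_mul_cancel_right, mul_assoc, huu, mul_one]⟩
        rw [hzw]
        calc z * a * u * (z * a * u) = z * a * (u * z * (u * u) * a * u) := by rw [huu]; group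
          _ = z * (a * (u * z * u)) * (u * a * u) := by group
          _ = z * ((u * z * u) * a) * (u * a * u) := by
            rw [hcomm a (u * z * u) (mem_zpowers a) (hconj z (hQle hz))]
          _ = z * u * (z * u) * (a * (u * a * u)) := by group
          _ = 1 := by rw [hQu z hz, hone, one_mul]
  have hrel : K.relIndex (S : Subgroup G) = 2 := by
    rw [relIndex_eq_two_iff]
    refine ⟨a, haS, fun b hb => ?_⟩
    have hcross : ∀ x ∈ zpowers a, (x ∈ Q → x * a ∉ Q) ∧ (x ∉ Q → x * a ∈ Q ∧ x * a⁻¹ ∈ Q) := by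
      intro x hx
      refine ⟨fun h h' => haQ ((Q.mul_mem_cancel_left h).1 h'), fun h => ?_⟩
      have h1 := (hpar x hx).resolve_left h
      refine ⟨?_, h1⟩
      have := mul_mem h1 (mem_zpowers (a * a) : a * a ∈ Q)
      rwa [show x * a⁻¹ * (a * a) = x * a by group] at this
    by_cases hba : b ∈ zpowers a
    · have hba' : b * a ∈ zpowers a := mul_mem hba (mem_zpowers a)
      by_cases h : b ∈ Q
      · exact Or.inr ⟨(hKa b hba).2 h, fun h' => (hcross b hba).1 h ((hKa _ hba').1 h')⟩
      · exact Or.inl ⟨(hKa _ hba').2 ((hcross b hba).2 h).1, fun h' => h ((hKa b hba).1 h')⟩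
    · have hba' : b * a ∉ zpowers a := fun h => hba (((zpowers a).mul_mem_cancel_right (mem_zpowers a)).1 h)
      have hx := hux b hb hba
      have hd : a * (u * a * u) ∈ Q := by
        refine hinvol _ (mul_mem (mem_zpowers a) (hconj a (mem_zpowers a))) ?_
        rw [← hφ2 a (mem_zpowers a)]; group
      have e : b * a * u = b * u * a⁻¹ * (a * (u * a * u)) := by
        calc b * a * u = b * (u * u) * a * u := by rw [huu, mul_one]
          _ = _ := by group
      by_cases h : b * u ∈ Q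
      · refine Or.inr ⟨(hKn b hba).2 h, fun h' => haQ ?_⟩
        have h2 := (hKn _ hba').1 h'
        rw [e] at h2
        have h3 := (Q.mul_mem_cancel_left h).1 ((Q.mul_mem_cancel_right hd).1 h2)
        exact inv_inv a ▸ inv_mem h3
      · refine Or.inl ⟨(hKn _ hba').2 ?_, fun h' => h ((hKn b hba).1 h')⟩
        rw [e]
        exact mul_mem ((hcross _ hx).2 h).2 hd
  have hw4 : w * w * (w * w) = 1 := by
    have := pow_orderOf_eq_one w
    rw [hw] at this
    rw [← this]; simp [pow_succ, mul_assoc]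
  have hctrl : ∀ (k : ℕ) (c : G), c * w ^ k * c⁻¹ ∈ (S : Subgroup G) →
      (c * w ^ k * c⁻¹ ∈ K ↔ w ^ k ∈ K) := by
    intro k c hm
    rcases Nat.even_or_odd k with ⟨l, rfl⟩ | hk
    · have hsq : w ^ (l + l) * w ^ (l + l) = 1 := by
        rw [← pow_add, show l + l + (l + l) = 4 * l by omega, pow_mul,
          show w ^ 4 = w * w * (w * w) by simp [pow_succ, mul_assoc], hw4, one_pow]
      refine iff_of_true (hKinv _ hm ?_) (hKinv _ (pow_mem hwS _) hsq)
      rw [show c * w ^ (l + l) * c⁻¹ * (c * w ^ (l + l) * c⁻¹) = c * (w ^ (l + l) * w ^ (l + l)) * c⁻¹ by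
        group, hsq]
      group
    · have hcop : Nat.Coprime (orderOf w) k := by
        rw [hw, show (4 : ℕ) = 2 ^ 2 by norm_num]
        exact Nat.Coprime.pow_left 2 ((Nat.prime_two.coprime_iff_not_dvd).2 hk.not_two_dvd_nat)
      have hk4 : orderOf (w ^ k) = 4 := by rw [Nat.Coprime.orderOf_pow hcop, hw]
      have hCk : ∀ x : G, x * w ^ k = w ^ k * x → x ∈ zpowers (w ^ k) := by
        intro x hx
        obtain ⟨j, hj⟩ := exists_pow_eq_self_of_coprime hcop.symm
        have hxw : x * w = w * x := by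
          have := ((show Commute x (w ^ k) from hx).pow_right j).eq
          rwa [hj] at this
        have hle : zpowers w ≤ zpowers (w ^ k) := zpowers_le.2 (mem_zpowers_iff.2 ⟨j, by
          rw [zpow_natCast, hj]⟩)
        exact hle (hC x hxw)
      have hC' : ∀ x : G, x * (c * w ^ k * c⁻¹) = (c * w ^ k * c⁻¹) * x → x ∈ zpowers (c * w ^ k * c⁻¹) := by
        intro x hx
        obtain ⟨j, hj⟩ := mem_zpowers_iff.1 (hCk (c⁻¹ * x * c) (by
          calc c⁻¹ * x * c * w ^ k = c⁻¹ * (x * (c * w ^ k * c⁻¹)) * c := by group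
            _ = c⁻¹ * ((c * w ^ k * c⁻¹) * x) * c := by rw [hx]
            _ = w ^ k * (c⁻¹ * x * c) := by group))
        exact mem_zpowers_iff.2 ⟨j, by rw [conj_zpow, hj]; group⟩
      have key : ∀ g : G, orderOf g = 4 → (∀ x : G, x * g = g * x → x ∈ zpowers g) → g ∉ K := by
        intro g hg hCg hgK
        have h := hKout g hgK (hnc g hg hCg)
        have := Nat.le_of_dvd two_pos (orderOf_dvd_of_pow_eq_one (show g ^ 2 = 1 by rw [pow_two, h]))
        omega
      exact iff_of_false (key _ (by rw [orderOf_conj, hk4]) hC') (key _ hk4 hCk)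
  obtain ⟨M, hM, hMi, -, -⟩ :=
    Cfsg.Lib.TwoFusion.exists_index_two_of_transfer S K hKS hrel w hwS hwK hctrl
  have hGc : 2 ^ n ∣ Nat.card G := hn ▸ (S : Subgroup G).card_subgroup_dvd_card
  have h16 : 2 ^ 4 ≤ 2 ^ n := Nat.pow_le_pow_right two_pos hn4
  have := Nat.le_of_dvd Nat.card_pos hGc
  rcases hM.eq_bot_or_eq_top with e | e
  · rw [e, index_bot] at hMi; omega
  · rw [e, index_top] at hMi; omega

/-- An element of order four with centraliser of order four gives dihedral Sylow subgroups of order eight. -/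
theorem exists_data [IsSimpleGroup G] (hG : ¬ IsCyclic G) {w : G} (hw : orderOf w = 4)
    (hc : Nat.card (centralizer ({w} : Set G)) = 4) : ∃ S : Sylow 2 G, ∃ s : G, Data S w s := by
  haveI : Fact (Nat.Prime 2) := ⟨Nat.prime_two⟩
  have hCeq : zpowers w = centralizer ({w} : Set G) :=
    eq_of_le_of_card_ge (zpowers_le.2 (mem_centralizer_singleton_iff.2 rfl))
      (by rw [hc, Nat.card_zpowers, hw])
  have hC : ∀ x : G, x * w = w * x → x ∈ zpowers w := fun x hx => by
    rw [hCeq]; exact mem_centralizer_singleton_iff.2 hx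
  obtain ⟨S, hS⟩ := (IsPGroup.of_card (n := 2) (by rw [Nat.card_zpowers, hw]; norm_num) :
    IsPGroup 2 (zpowers w)).exists_le_sylow
  have hwS : w ∈ (S : Subgroup G) := hS (mem_zpowers w)
  obtain ⟨n, hn⟩ := IsPGroup.iff_card.1 S.2
  have hn2 : 2 ≤ n := by
    by_contra h
    have h1 := Nat.le_of_dvd Nat.card_pos (card_dvd_of_le (zpowers_le.2 hwS))
    rw [hn, Nat.card_zpowers, hw] at h1
    have : 2 ^ n ≤ 2 ^ 1 := Nat.pow_le_pow_right two_pos (by omega)
    omega
  obtain ⟨p, hp, q, hq, hpo, hqo, hpq⟩ := klein_in_sylow hG S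
  have hzp : ∀ y ∈ zpowers w, orderOf y = 2 → y = w * w := by
    intro y hy hyo
    classical
    rw [mem_zpowers_iff_mem_range_orderOf, hw] at hy
    simp only [Finset.mem_image, Finset.mem_range] at hy
    obtain ⟨k, hk, rfl⟩ := hy
    interval_cases k
    · rw [pow_zero, orderOf_one] at hyo; omega
    · rw [pow_one, hw] at hyo; omega
    · rw [pow_two]
    · rw [Nat.Coprime.orderOf_pow (by rw [hw]; decide), hw] at hyo; omega
  obtain ⟨s, hsS, hsw, hso⟩ : ∃ s ∈ (S : Subgroup G), s ∉ zpowers w ∧ orderOf s = 2 := by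
    by_cases h : p ∈ zpowers w
    · exact ⟨q, hq, fun hq' => hpq ((hzp p h hpo).trans (hzp q hq' hqo).symm), hqo⟩
    · exact ⟨p, hp, h, hpo⟩
  rcases (show n = 2 ∨ n = 3 ∨ 4 ≤ n by omega) with rfl | rfl | h4
  · refine absurd ?_ hsw
    rw [eq_of_le_of_card_ge (zpowers_le.2 hwS) (by rw [hn, Nat.card_zpowers, hw]; norm_num)]
    exact hsS
  · have hi : ((zpowers w).subgroupOf (S : Subgroup G)).index = 2 := by
      have h := ((zpowers w).subgroupOf (S : Subgroup G)).card_mul_index
      rw [Nat.card_congr (subgroupOfEquivOfLe (zpowers_le.2 hwS)).toEquiv, Nat.card_zpowers, hw, hn] at h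
      omega
    have hss := Cfsg.Lib.InvolCalc.sq_of_order_two hso
    have hsi := Cfsg.Lib.InvolCalc.inv_of_order_two hso
    have hcases : ∀ x ∈ (S : Subgroup G), x ∈ zpowers w ∨ x * s ∈ zpowers w := by
      intro x hx
      by_cases h : x ∈ zpowers w
      · exact Or.inl h
      · exact Or.inr (mem_subgroupOf.1 ((mul_mem_iff_of_index_two hi (a := ⟨x, hx⟩) (b := ⟨s, hsS⟩)).2
          (iff_of_false (fun h' => h (mem_subgroupOf.1 h')) fun h' => hsw (mem_subgroupOf.1 h'))))
    have hsws : s * w * s = w⁻¹ := by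
      have hm : s * w * s ∈ zpowers w := by
        have hn2 : s * w ∉ zpowers w := fun h => hsw (((zpowers w).mul_mem_cancel_right (mem_zpowers w)).1 h)
        exact (hcases _ (mul_mem hsS hwS)).resolve_left hn2
      have ho : orderOf (s * w * s) = 4 := by
        rw [← hw]
        nth_rw 2 [← hsi]
        exact orderOf_conj s w
      classical
      rw [mem_zpowers_iff_mem_range_orderOf, hw] at hm
      simp only [Finset.mem_image, Finset.mem_range] at hm
      obtain ⟨k, hk, he⟩ := hm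
      rw [← he] at ho ⊢
      interval_cases k
      · rw [pow_zero, orderOf_one] at ho; omega
      · rw [pow_one] at he
        refine absurd (hC s ?_) hsw
        nth_rw 2 [he]
        rw [mul_assoc, hss, mul_one]
      · rw [orderOf_pow' w two_ne_zero, hw] at ho
        norm_num at ho
      · refine eq_inv_of_mul_eq_one_left ?_
        rw [← pow_succ]
        show w ^ 4 = 1
        rw [← hw]; exact pow_orderOf_eq_one w
    exact ⟨S, s, inferInstance, hw, hso, hsws, hC, hwS, hsS, hcases⟩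
  · exact (no_large hG S hn h4 hwS hw hC).elim

end Cfsg.Lib.SelfCentFour
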