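import Cfsg.Agent.InvolCalc.Dihedral
import Cfsg.Agent.Blocks.DihedralOrder
import Cfsg.Agent.Transfer.ThompsonTransfer
import Cfsg.Agent.TwoFusion.FusionTools
import Cfsg.Agent.S1254

/-!
A simple group with dihedral Sylow 2-subgroups of order eight in which an element `w` of order four
generates its centraliser: the centraliser of the involution `w²`.
-/

set_option autoImplicit false
set_option linter.unusedSectionVars false
set_option linter.style.haveILetI false

namespace Cfsg.Lib.SelfCentFour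

open Subgroup

universe u

variable {G : Type u} [Group G] [Finite G]

/-- The hypotheses. -/
structure Data (S : Sylow 2 G) (w s : G) : Prop where
  simple : IsSimpleGroup G
  hw : orderOf w = 4
  hs : orderOf s = 2
  hsw : s * w * s = w⁻¹
  hC : ∀ x : G, x * w = w * x → x ∈ zpowers w
  wmem : w ∈ (S : Subgroup G)
  smem : s ∈ (S : Subgroup G)
  hS : ∀ x ∈ (S : Subgroup G), x ∈ zpowers w ∨ x * s ∈ zpowers w

theorem orderOf_conj (g x : G) : orderOf (g * x * g⁻¹) = orderOf x := by
  rw [show g * x * g⁻¹ = MulAut.conj g x from rfl, MulEquiv.orderOf_eq]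

theorem two_of_sq {x : G} (h : x * x = 1) (h1 : x ≠ 1) : orderOf x = 2 :=
  Cfsg.Lib.InvolCalc.order_two_of_mul_self h h1

theorem odd_sq_eq_one {x : G} (hx : Odd (orderOf x)) (h : x * x = 1) : x = 1 := by
  by_contra h1
  rw [two_of_sq h h1] at hx
  exact absurd hx (by decide)

theorem conj_inj (g : G) {x y : G} (h : g * x * g⁻¹ = g * y * g⁻¹) : x = y :=
  (MulAut.conj g).injective h

theorem commute_conj (g : G) {x y : G} (h : x * y = y * x) :
    (g * x * g⁻¹) * (g * y * g⁻¹) = (g * y * g⁻¹) * (g * x * g⁻¹) := by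
  rw [show g * x * g⁻¹ * (g * y * g⁻¹) = g * (x * y) * g⁻¹ by group, h]
  group

namespace Data

variable {S : Sylow 2 G} {w s : G} (D : Data S w s)
include D

theorem t_order : orderOf (w * w) = 2 := by
  rw [← pow_two, orderOf_pow_of_dvd two_ne_zero (by rw [D.hw]; norm_num), D.hw]

theorem ss : s * s = 1 := Cfsg.Lib.InvolCalc.sq_of_order_two D.hs

theorem s_inv : s⁻¹ = s := Cfsg.Lib.InvolCalc.inv_of_order_two D.hs

theorem w4 : w * w * (w * w) = 1 := by
  have := pow_orderOf_eq_one w
  rw [D.hw] at this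
  rw [← this]; simp [pow_succ, mul_assoc]

theorem w_inv : w⁻¹ = w * w * w := inv_eq_of_mul_eq_one_left (by
  rw [mul_assoc (w * w) w w]; exact D.w4)

theorem sw : s * w = w⁻¹ * s := by
  rw [← D.hsw, mul_assoc (s * w) s s, D.ss, mul_one]

theorem s_w_conj : s * w * s⁻¹ = w⁻¹ := by rw [D.s_inv, D.hsw]

theorem ws : w * s = s * w⁻¹ := by
  have h : s * w⁻¹ * s = w := by
    rw [← D.hsw]
    calc s * (s * w * s) * s = (s * s) * w * (s * s) := by group
      _ = w := by rw [D.ss, one_mul, mul_one]
  calc w * s = (s * w⁻¹ * s) * s := by rw [h]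
    _ = s * w⁻¹ * (s * s) := by group
    _ = s * w⁻¹ := by rw [D.ss, mul_one]

theorem ts : (w * w) * s = s * (w * w) := by
  rw [mul_assoc, D.ws, ← mul_assoc, D.ws, mul_assoc, ← mul_inv_rev]
  congr 1
  exact inv_eq_of_mul_eq_one_right D.w4

theorem w_ne : w ≠ 1 := fun h => by
  have := D.hw
  rw [h, orderOf_one] at this
  omega

theorem t_ne : w * w ≠ 1 := Cfsg.Lib.InvolCalc.ne_one_of_order_two D.t_order

theorem s_not_zp : s ∉ zpowers w := fun h => by
  obtain ⟨i, hi⟩ := mem_zpowers_iff.1 h
  have hc : s * w = w * s := by rw [← hi]; exact ((Commute.refl w).zpow_left i).eq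
  have h2 := D.sw
  rw [hc] at h2
  have h3 : w = w⁻¹ := by
    have := D.hsw
    rwa [hc, mul_assoc, D.ss, mul_one] at this
  exact D.t_ne (by rw [mul_eq_one_iff_eq_inv]; exact h3)

theorem zp_cases {x : G} (hx : x ∈ zpowers w) : x = 1 ∨ x = w ∨ x = w * w ∨ x = w⁻¹ := by
  classical
  rw [mem_zpowers_iff_mem_range_orderOf, D.hw] at hx
  simp only [Finset.mem_image, Finset.mem_range] at hx
  obtain ⟨k, hk, rfl⟩ := hx
  interval_cases k
  · left; simp
  · right; left; simp
  · right; right; left; rw [pow_two]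
  · right; right; right; rw [D.w_inv]; simp [pow_succ, mul_assoc]

theorem S_cases {x : G} (hx : x ∈ (S : Subgroup G)) :
    x = 1 ∨ x = w ∨ x = w * w ∨ x = w⁻¹ ∨ x = s ∨ x = w * s ∨ x = w * w * s ∨ x = w⁻¹ * s := by
  rcases D.hS x hx with h | h
  · rcases D.zp_cases h with e | e | e | e <;> subst e <;> tauto
  · have hxs : x = x * s * s := by rw [mul_assoc, D.ss, mul_one]
    rcases D.zp_cases h with e | e | e | e <;> rw [e] at hxs
    · rw [one_mul] at hxs; tauto
    · tauto
    · tauto
    · tauto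

theorem refl_two {x : G} (hx : x ∈ (S : Subgroup G)) (h : x ∉ zpowers w) : orderOf x = 2 := by
  obtain hm | hm := D.hS x hx
  · exact absurd hm h
  refine two_of_sq ?_ (fun e => h (e ▸ one_mem _))
  obtain ⟨i, hi⟩ := mem_zpowers_iff.1 hm
  have hxs : x = w ^ i * s := by rw [hi, mul_assoc, D.ss, mul_one]
  rw [hxs]
  calc w ^ i * s * (w ^ i * s) = w ^ i * (s * w ^ i * s⁻¹) := by rw [D.s_inv]; group
    _ = w ^ i * (s * w * s⁻¹) ^ i := by rw [conj_zpow]
    _ = 1 := by rw [D.s_w_conj, inv_zpow, mul_inv_cancel]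

theorem ws_order : orderOf (w * s) = 2 := D.refl_two (mul_mem D.wmem D.smem) fun h =>
  D.s_not_zp (((zpowers w).mul_mem_cancel_left (mem_zpowers w)).1 h)

/-- The same data with `w * s` in place of `s`. -/
theorem swap : Data S w (w * s) where
  simple := D.simple
  hw := D.hw
  hs := D.ws_order
  hsw := by
    calc w * s * w * (w * s) = w * (s * w) * (w * s) := by group
      _ = w * (w⁻¹ * s) * (w * s) := by rw [D.sw]
      _ = s * w * s := by group
      _ = w⁻¹ := D.hsw
  hC := D.hC
  wmem := D.wmem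
  smem := mul_mem D.wmem D.smem
  hS := fun x hx => by
    refine (D.hS x hx).imp id fun h => ?_
    have h2 : x * (w * s) = (x * s) * (s * w * s) := by
      calc x * (w * s) = x * (1 * w) * s := by group
        _ = x * (s * s * w) * s := by rw [D.ss]
        _ = _ := by group
    rw [h2, D.hsw]
    exact mul_mem h (inv_mem (mem_zpowers w))

end Data

end Cfsg.Lib.SelfCentFour
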