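import Cfsg.Agent.SelfCentFour.Local

/-!
The odd part `W` of the centraliser of `w²` is abelian and inverted by `w`, and it is the product of
the fixed points of the two reflections.
-/

set_option autoImplicit false
set_option linter.unusedSectionVars false
set_option linter.style.haveILetI false

namespace Cfsg.Lib.SelfCentFour

open Subgroup Cfsg.Lib.Dihedral

universe u

variable {G : Type u} [Group G] [Finite G]

/-- The data together with the odd part of the centraliser of the involution. -/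
structure Core (S : Sylow 2 G) (w s : G) (W : Subgroup G) : Prop extends Data S w s where
  mem : ∀ x : G, x ∈ W ↔ x * (w * w) = (w * w) * x ∧ Odd (orderOf x)
  decomp : ∀ c : G, c * (w * w) = (w * w) * c → ∃ x ∈ W, ∃ d ∈ (S : Subgroup G), c = x * d
  card : Nat.card (centralizer ({w * w} : Set G)) = 8 * Nat.card W

theorem exists_Core {S : Sylow 2 G} {w s : G} (D : Data S w s) :
    ∃ W, Core S w s W := by
  obtain ⟨W, h1, h2, h3⟩ := D.exists_core
  exact ⟨W, ⟨D, h1, h2, h3⟩⟩

namespace Core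

variable {S : Sylow 2 G} {w s : G} {W : Subgroup G} (D : Core S w s W)
include D

theorem swap : Core S w (w * s) W := ⟨D.toData.swap, D.mem, D.decomp, D.card⟩

theorem mem_t {x : G} (hx : x ∈ W) : x * (w * w) = (w * w) * x := ((D.mem x).1 hx).1

theorem mem_odd {x : G} (hx : x ∈ W) : Odd (orderOf x) := ((D.mem x).1 hx).2

theorem not_two_dvd : ∀ x ∈ W, ¬ 2 ∣ orderOf x := fun _ hx => (D.mem_odd hx).not_two_dvd_nat

theorem odd_card : Odd (Nat.card W) := by
  refine Nat.not_even_iff_odd.1 fun h => ?_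
  obtain ⟨x, hx⟩ := exists_prime_orderOf_dvd_card' (G := W) 2 (even_iff_two_dvd.1 h)
  rw [← Subgroup.orderOf_coe] at hx
  exact D.not_two_dvd x x.2 (by rw [hx])

theorem conj_mem {c x : G} (hc : c * (w * w) = (w * w) * c) (hx : x ∈ W) : c * x * c⁻¹ ∈ W := by
  refine (D.mem _).2 ⟨?_, by rw [orderOf_conj]; exact D.mem_odd hx⟩
  have h := commute_conj c (D.mem_t hx)
  rwa [show c * (w * w) * c⁻¹ = w * w by rw [hc, mul_inv_cancel_right]] at h

theorem w_t : w * (w * w) = (w * w) * w := by rw [mul_assoc]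

theorem s_t : s * (w * w) = (w * w) * s := D.ts.symm

theorem ws_t : (w * s) * (w * w) = (w * w) * (w * s) := by
  rw [mul_assoc, D.s_t, ← mul_assoc, D.w_t, mul_assoc]

theorem inverts {x : G} (hx : x ∈ W) : w * x * w⁻¹ = x⁻¹ := by
  let φ : W →* W :=
    { toFun := fun y => ⟨w * y * w⁻¹, D.conj_mem D.w_t y.2⟩
      map_one' := Subtype.ext (by simp)
      map_mul' := fun a b => Subtype.ext (by simp [mul_assoc]) }
  have hfix : MonoidHom.FixedPointFree φ := fun y hy => by
    have h : w * (y : G) * w⁻¹ = y := congrArg Subtype.val hy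
    rw [mul_inv_eq_iff_eq_mul] at h
    exact Subtype.ext (D.odd_comm_four D.hw h.symm (D.mem_odd y.2))
  have hinv : Function.Involutive φ := fun y => Subtype.ext (by
    show w * (w * (y : G) * w⁻¹) * w⁻¹ = y
    calc w * (w * (y : G) * w⁻¹) * w⁻¹ = (w * w) * y * (w * w)⁻¹ := by group
      _ = y := by rw [← D.mem_t y.2, mul_inv_cancel_right])
  exact congrArg Subtype.val (congrFun (hfix.coe_eq_inv_of_involutive hinv) ⟨x, hx⟩)

theorem comm {x y : G} (hx : x ∈ W) (hy : y ∈ W) : x * y = y * x := by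
  have h := D.inverts (mul_mem hx hy)
  rw [show w * (x * y) * w⁻¹ = (w * x * w⁻¹) * (w * y * w⁻¹) by group, D.inverts hx, D.inverts hy,
    ← mul_inv_rev, inv_inj] at h
  exact h.symm

theorem invAct {r : G} (hr : r ∈ (S : Subgroup G)) (h2 : r * r = 1) : InvAct W r where
  mem := fun _ hx => D.conj_mem (mem_centralizer_singleton_iff.1 (D.S_le hr)) hx
  invol := fun x _ => by
    calc r * (r * x * r⁻¹) * r⁻¹ = (r * r) * x * (r * r)⁻¹ := by group
      _ = x := by rw [h2]; group

theorem invAct_s : InvAct W s := D.invAct D.smem D.ss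

/-- `s` inverts exactly what `w * s` fixes. -/
theorem inverted_iff {x : G} (hx : x ∈ W) :
    s * x * s⁻¹ = x⁻¹ ↔ x ∈ W ⊓ centralizer ({w * s} : Set G) := by
  have e : w * s * x * (w * s)⁻¹ = (s * x * s⁻¹)⁻¹ := by
    rw [show w * s * x * (w * s)⁻¹ = w * (s * x * s⁻¹) * w⁻¹ by group,
      D.inverts (D.conj_mem D.s_t hx)]
  rw [mem_inf, mem_centralizer_singleton_iff]
  constructor
  · intro h
    refine ⟨hx, ?_⟩
    rw [h, inv_inv, mul_inv_eq_iff_eq_mul] at e
    exact e.symm
  · rintro ⟨-, h⟩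
    rw [← h, mul_inv_cancel_right] at e
    rw [← inv_inv (s * x * s⁻¹), ← e]

theorem card_AB : Nat.card ↥(W ⊓ centralizer ({s} : Set G)) *
    Nat.card ↥(W ⊓ centralizer ({w * s} : Set G)) = Nat.card W := by
  have h := card_inverted_mul_card_fixed D.not_two_dvd D.invAct_s
  rw [mul_comm] at h
  refine Eq.trans (congrArg₂ (· * ·) rfl ?_) h
  refine (Nat.card_congr (Equiv.subtypeEquivRight fun x => ?_)).symm
  constructor
  · rintro ⟨hx, h'⟩
    exact (D.inverted_iff hx).1 h'
  · intro hx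
    exact ⟨hx.1, (D.inverted_iff hx.1).2 hx⟩

theorem odd_A : Odd (Nat.card ↥(W ⊓ centralizer ({s} : Set G))) :=
  Odd.of_dvd_nat D.odd_card (card_dvd_of_le inf_le_left)

theorem eq_of_mul_eq {x y d e : G} (hx : x ∈ W) (hy : y ∈ W) (hd : d ∈ (S : Subgroup G))
    (he : e ∈ (S : Subgroup G)) (h : x * d = y * e) : x = y ∧ d = e := by
  have h1 : y⁻¹ * x = e * d⁻¹ := by
    rw [eq_mul_inv_iff_mul_eq, mul_assoc, h, inv_mul_cancel_left]
  have hW : y⁻¹ * x ∈ W := mul_mem (inv_mem hy) hx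
  have hS : y⁻¹ * x ∈ (S : Subgroup G) := h1 ▸ mul_mem he (inv_mem hd)
  obtain ⟨k, hk⟩ := IsPGroup.iff_orderOf.1 S.2 ⟨_, hS⟩
  rw [Subgroup.orderOf_mk] at hk
  have h2 : orderOf (y⁻¹ * x) = 1 := by
    rcases Nat.eq_zero_or_pos k with rfl | hk0
    · simpa using hk
    · exact absurd (hk ▸ dvd_pow_self 2 hk0.ne') (D.not_two_dvd _ hW)
  rw [orderOf_eq_one_iff] at h2
  exact ⟨(inv_mul_eq_one.1 h2).symm, (mul_inv_eq_one.1 (h1.symm.trans h2)).symm⟩

/-- An element of `C(w²)` commuting with `s`. -/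
theorem decomp_s {c : G} (hc : c * (w * w) = (w * w) * c) (hcs : c * s = s * c) :
    ∃ x ∈ W ⊓ centralizer ({s} : Set G), ∃ d ∈ (S : Subgroup G), d * s = s * d ∧ c = x * d := by
  obtain ⟨x, hx, d, hd, rfl⟩ := D.decomp c hc
  have h : (s * x * s⁻¹) * (s * d * s⁻¹) = x * d := by
    rw [show (s * x * s⁻¹) * (s * d * s⁻¹) = s * (x * d) * s⁻¹ by group, ← hcs,
      mul_inv_cancel_right]
  obtain ⟨e1, e2⟩ := D.eq_of_mul_eq (D.conj_mem D.s_t hx) hx
    (mul_mem (mul_mem D.smem hd) (inv_mem D.smem)) hd h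
  rw [mul_inv_eq_iff_eq_mul] at e1 e2
  exact ⟨x, ⟨hx, mem_centralizer_singleton_iff.2 e1.symm⟩, d, hd, e2.symm, rfl⟩

theorem card_V : Nat.card ↥((S : Subgroup G) ⊓ centralizer ({s} : Set G)) = 4 := by
  have hi : ((S : Subgroup G) ⊓ centralizer ({s} : Set G)).relIndex (S : Subgroup G) = 2 := by
    have hw' : w * s ≠ s * w := fun h => D.t_ne (by
      rw [D.sw] at h
      have h' := mul_right_cancel h
      calc w * w = w * w⁻¹ := by rw [← h']
        _ = 1 := mul_inv_cancel w)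
    have key : ∀ b ∈ (S : Subgroup G), b * s = s * b ∨ b * w * s = s * (b * w) := by
      intro b hb
      have c1 : ∀ z : G, z = 1 ∨ z = w * w → z * s = s * z := by
        rintro z (rfl | rfl)
        · simp
        · exact D.ts
      have c2 : ∀ z : G, z = 1 ∨ z = w * w → (z * s) * s = s * (z * s) := by
        intro z hz
        rw [← mul_assoc s z s, ← c1 z hz]
      rcases D.S_cases hb with e | e | e | e | e | e | e | e <;> subst e
      · exact Or.inl (c1 _ (Or.inl rfl))
      · exact Or.inr (c1 _ (Or.inr rfl))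
      · exact Or.inl (c1 _ (Or.inr rfl))
      · exact Or.inr (c1 _ (Or.inl (inv_mul_cancel w)))
      · exact Or.inl rfl
      · refine Or.inr ?_
        rw [show w * s * w = s by rw [mul_assoc, D.sw, ← mul_assoc, mul_inv_cancel, one_mul]]
      · exact Or.inl (c2 _ (Or.inr rfl))
      · refine Or.inr ?_
        rw [show w⁻¹ * s * w = w * w * s by
          rw [mul_assoc, D.sw, ← mul_assoc]
          congr 1
          rw [← mul_inv_rev]
          exact inv_eq_of_mul_eq_one_right D.w4]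
        exact c2 _ (Or.inr rfl)
    rw [inf_relIndex_left, relIndex_eq_two_iff]
    refine ⟨w, D.wmem, fun b hb => ?_⟩
    simp only [mem_centralizer_singleton_iff]
    rcases key b hb with h | h
    · refine Or.inr ⟨h, fun h' => hw' ?_⟩
      rw [mul_assoc, ← mul_assoc s b w, ← h, mul_assoc] at h'
      exact mul_left_cancel h'
    · refine Or.inl ⟨h, fun h' => hw' ?_⟩
      rw [mul_assoc, ← mul_assoc s b w, ← h', mul_assoc] at h
      exact mul_left_cancel h
  have h := card_mul_index (((S : Subgroup G) ⊓ centralizer ({s} : Set G)).subgroupOf (S : Subgroup G))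
  rw [Nat.card_congr (subgroupOfEquivOfLe inf_le_left).toEquiv, D.toData.card_S] at h
  have h2 : (((S : Subgroup G) ⊓ centralizer ({s} : Set G)).subgroupOf (S : Subgroup G)).index = 2 := hi
  rw [h2] at h
  omega

theorem card_cent_pair : Nat.card (centralizer ({w * w, s} : Set G)) =
    4 * Nat.card ↥(W ⊓ centralizer ({s} : Set G)) := by
  have hmem : ∀ c, c ∈ centralizer ({w * w, s} : Set G) ↔ c * (w * w) = (w * w) * c ∧ c * s = s * c := by
    intro c
    rw [mem_centralizer_iff]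
    refine ⟨fun h => ⟨(h _ (Or.inl rfl)).symm, (h _ (Or.inr rfl)).symm⟩, ?_⟩
    rintro ⟨h1, h2⟩ z (rfl | rfl)
    · exact h1.symm
    · exact h2.symm
  rw [← D.card_V, ← Nat.card_prod]
  symm
  refine Nat.card_congr (Equiv.ofBijective
    (fun p => ⟨(p.2 : G) * (p.1 : G), (hmem _).2 ⟨?_, ?_⟩⟩) ⟨?_, ?_⟩)
  · rw [mul_assoc, mem_centralizer_singleton_iff.1 (D.S_le p.1.2.1), ← mul_assoc, D.mem_t p.2.2.1,
      mul_assoc]
  · rw [mul_assoc, mem_centralizer_singleton_iff.1 p.1.2.2, ← mul_assoc,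
      mem_centralizer_singleton_iff.1 p.2.2.2, mul_assoc]
  · rintro ⟨d, x⟩ ⟨e, y⟩ h
    obtain ⟨h1, h2⟩ := D.eq_of_mul_eq x.2.1 y.2.1 d.2.1 e.2.1 (congrArg Subtype.val h)
    exact Prod.ext (Subtype.ext h2) (Subtype.ext h1)
  · rintro ⟨c, hc⟩
    obtain ⟨h1, h2⟩ := (hmem c).1 hc
    obtain ⟨x, hx, d, hd, hds, rfl⟩ := D.decomp_s h1 h2
    exact ⟨(⟨d, hd, mem_centralizer_singleton_iff.2 hds⟩, ⟨x, hx⟩), rfl⟩

end Core

end Cfsg.Lib.SelfCentFour
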