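import Cfsg.Agent.SelfCentFour.Counting

/-!
The centraliser of `A = C_W(s)` when `A` is nontrivial: its fusion and the odd part of `C(W)`.
-/

set_option autoImplicit false
set_option linter.unusedSectionVars false
set_option linter.style.haveILetI false

namespace Cfsg.Lib.SelfCentFour

open Subgroup Cfsg.Lib.Dihedral

universe u

variable {G : Type u} [Group G] [Finite G]

/-- The centraliser of the elements of `W` fixed by `s`. -/
def centA (W : Subgroup G) (s : G) : Subgroup G :=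
  centralizer ((W ⊓ centralizer ({s} : Set G) : Subgroup G) : Set G)

theorem mem_centA {W : Subgroup G} {s g : G} :
    g ∈ centA W s ↔ ∀ x ∈ W, x * s = s * x → x * g = g * x := by
  simp only [centA, mem_centralizer_iff, SetLike.mem_coe, mem_inf, forall_eq, Set.mem_singleton_iff,
    and_imp]
  exact forall₂_congr fun x _ => ⟨fun h e => h e.symm, fun h e => h e.symm⟩

namespace Data

variable {S : Sylow 2 G} {w s : G} (D : Data S w s)
include D

theorem S_comm_s {d : G} (hd : d ∈ (S : Subgroup G)) (h : d * s = s * d) :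
    d = 1 ∨ d = w * w ∨ d = s ∨ d = w * w * s := by
  have hne : w * s ≠ s * w := fun h => D.t_ne (by
    rw [D.sw] at h
    have h' := mul_right_cancel h
    calc w * w = w * w⁻¹ := by rw [← h']
      _ = 1 := mul_inv_cancel w)
  have hni : w⁻¹ * s ≠ s * w⁻¹ := fun e => hne (by
    calc w * s = w * (s * w⁻¹) * w := by group
      _ = w * (w⁻¹ * s) * w := by rw [e]
      _ = s * w := by group)
  rcases D.S_cases hd with e | e | e | e | e | e | e | e <;> subst e
  · exact Or.inl rfl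
  · exact absurd h hne
  · exact Or.inr (Or.inl rfl)
  · exact absurd h hni
  · exact Or.inr (Or.inr (Or.inl rfl))
  · exact absurd (mul_right_cancel (h.trans (mul_assoc _ _ _).symm)) hne
  · exact Or.inr (Or.inr (Or.inr rfl))
  · exact absurd (mul_right_cancel (h.trans (mul_assoc _ _ _).symm)) hni

theorem ts_order : orderOf (w * w * s) = 2 :=
  D.refl_two (mul_mem (mul_mem D.wmem D.wmem) D.smem) fun h =>
    D.s_not_zp (((zpowers w).mul_mem_cancel_left (mul_mem (mem_zpowers w) (mem_zpowers w))).1 h)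

theorem ws_conj : w * s * w⁻¹ = w * w * s := by
  rw [mul_assoc, ← show w * s = s * w⁻¹ from D.ws, ← mul_assoc]

/-- A conjugating element carrying `w * w` to `s` and a reflection back to `w * w`. -/
theorem exists_move : ∃ g r : G, g * (w * w) * g⁻¹ = s ∧ g * r * g⁻¹ = w * w ∧
    w * r * w⁻¹ = (w * w) * r ∧ r * (w * w) = (w * w) * r := by
  obtain ⟨g₀, hg₀⟩ := isConj_iff.1 (D.inv_conj D.hs)
  set r₀ := g₀⁻¹ * (w * w) * g₀ with hr₀
  have hr₀o : orderOf r₀ = 2 := by
    rw [hr₀, ← D.t_order]; simpa using orderOf_conj g₀⁻¹ (w * w)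
  have hr₀C : r₀ ∈ centralizer ({w * w} : Set G) := by
    rw [mem_centralizer_singleton_iff, hr₀]
    apply conj_inj g₀
    rw [show g₀ * (g₀⁻¹ * (w * w) * g₀ * (w * w)) * g₀⁻¹ = (w * w) * (g₀ * (w * w) * g₀⁻¹) by group,
      show g₀ * (w * w * (g₀⁻¹ * (w * w) * g₀)) * g₀⁻¹ = (g₀ * (w * w) * g₀⁻¹) * (w * w) by group, hg₀,
      D.ts]
  obtain ⟨c, hcC, hc⟩ := Cfsg.Lib.TwoFusion.exists_sylow_conj S D.S_le
    (IsPGroup.of_card (n := 1) (by rw [Nat.card_zpowers, hr₀o, pow_one]) : IsPGroup 2 (zpowers r₀))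
    (zpowers_le.2 hr₀C)
  have hrS := hc r₀ (mem_zpowers r₀)
  set r := c * r₀ * c⁻¹ with hr
  have hct : c * (w * w) * c⁻¹ = w * w := by
    rw [mem_centralizer_singleton_iff.1 hcC, mul_inv_cancel_right]
  have hg1 : g₀ * c⁻¹ * (w * w) * (g₀ * c⁻¹)⁻¹ = s := by
    nth_rw 1 [← hct]
    rw [← hg₀]; group
  have hg2 : g₀ * c⁻¹ * r * (g₀ * c⁻¹)⁻¹ = w * w := by rw [hr, hr₀]; group
  have hrz : r ∉ zpowers w := by
    intro h
    have ho : orderOf r = 2 := by rw [hr, orderOf_conj, hr₀o]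
    rcases D.zp_cases h with e | e | e | e
    · rw [e, orderOf_one] at ho; omega
    · rw [e, D.hw] at ho; omega
    · rw [e, hg1] at hg2
      exact D.s_not_zp (hg2 ▸ mul_mem (mem_zpowers w) (mem_zpowers w))
    · rw [e, orderOf_inv, D.hw] at ho; omega
  refine ⟨g₀ * c⁻¹, r, hg1, hg2, ?_, mem_centralizer_singleton_iff.1 (D.S_le hrS)⟩
  obtain ⟨i, hi⟩ := mem_zpowers_iff.1 ((D.hS r hrS).resolve_left hrz)
  have hr' : r = w ^ i * s := by rw [hi, mul_assoc, D.ss, mul_one]
  rw [hr']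
  calc w * (w ^ i * s) * w⁻¹ = w ^ (i + 1) * (s * w⁻¹) := by rw [zpow_add_one]; group
    _ = w ^ (i + 1) * (w * s) := by rw [D.ws]
    _ = _ := by group

end Data

namespace Core

variable {S : Sylow 2 G} {w s : G} {W : Subgroup G} (D : Core S w s W)
include D

theorem W_le_centA : W ≤ centA W s :=
  fun _ hx => mem_centA.2 fun _ hy _ => D.comm hy hx

theorem t_centA : w * w ∈ centA W s := mem_centA.2 fun _ hx _ => D.mem_t hx

theorem s_centA : s ∈ centA W s := mem_centA.2 fun _ _ h => h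

theorem ts_centA : w * w * s ∈ centA W s := mul_mem D.t_centA D.s_centA

/-- An element inverting `A` normalises its centraliser. -/
theorem conj_centA {g : G} (hg : ∀ x ∈ W, x * s = s * x → g * x * g⁻¹ = x⁻¹) {y : G}
    (hy : y ∈ centA W s) : g * y * g⁻¹ ∈ centA W s := by
  refine mem_centA.2 fun x hx hxs => ?_
  have hxs' : x⁻¹ * s = s * x⁻¹ := ((show Commute x s from hxs).inv_left).eq
  have h := commute_conj g (mem_centA.1 hy _ (inv_mem hx) hxs')
  rwa [hg _ (inv_mem hx) hxs', inv_inv] at h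

theorem inverts_w_A : ∀ x ∈ W, x * s = s * x → w * x * w⁻¹ = x⁻¹ := fun _ hx _ => D.inverts hx

theorem inverts_ws_A : ∀ x ∈ W, x * s = s * x → w * s * x * (w * s)⁻¹ = x⁻¹ := fun x hx h => by
  rw [show w * s * x * (w * s)⁻¹ = w * (s * x * s⁻¹) * w⁻¹ by group, ← h, mul_inv_cancel_right,
    D.inverts hx]

theorem conj_ws_centA {y : G} (hy : y ∈ centA W s) : w * s * y * (w * s) ∈ centA W s := by
  have h := D.conj_centA D.inverts_ws_A hy
  rwa [Cfsg.Lib.InvolCalc.inv_of_order_two D.toData.ws_order] at h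

theorem exists_mul {x : G} (hx : x ∈ W) : ∃ u ∈ W ⊓ centralizer ({s} : Set G),
    ∃ v ∈ W ⊓ centralizer ({w * s} : Set G), x = u * v := by
  let f : ↥(W ⊓ centralizer ({s} : Set G)) × ↥(W ⊓ centralizer ({w * s} : Set G)) → W :=
    fun p => ⟨p.1 * p.2, mul_mem p.1.2.1 p.2.2.1⟩
  have hone : ∀ z ∈ W, z * s = s * z → z * (w * s) = (w * s) * z → z = 1 := by
    intro z hz h1 h2
    refine D.toData.odd_comm_four D.hw ?_ (D.mem_odd hz)
    calc z * w = z * (w * s) * s := by rw [mul_assoc z, mul_assoc w, D.toData.ss, mul_one]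
      _ = w * (s * z) * s := by rw [h2]; group
      _ = w * z * (s * s) := by rw [← h1]; group
      _ = w * z := by rw [D.toData.ss, mul_one]
  have hf : Function.Injective f := by
    rintro ⟨⟨u, hu⟩, ⟨v, hv⟩⟩ ⟨⟨u', hu'⟩, ⟨v', hv'⟩⟩ e
    have e' : u * v = u' * v' := congrArg Subtype.val e
    have e'' : u'⁻¹ * u = v' * v⁻¹ := by
      rw [eq_mul_inv_iff_mul_eq, mul_assoc, e', inv_mul_cancel_left]
    have h1 := mul_mem (inv_mem hu') hu
    have h2 : v' * v⁻¹ ∈ W ⊓ centralizer ({w * s} : Set G) := mul_mem hv' (inv_mem hv)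
    have := hone _ h1.1 (mem_centralizer_singleton_iff.1 h1.2)
      (e''.symm ▸ mem_centralizer_singleton_iff.1 h2.2)
    obtain rfl : u' = u := inv_mul_eq_one.1 this
    obtain rfl : v = v' := mul_left_cancel e'
    rfl
  have hb : Function.Bijective f := hf.bijective_of_nat_card_le (by rw [Nat.card_prod, D.card_AB])
  obtain ⟨⟨⟨u, hu⟩, ⟨v, hv⟩⟩, e⟩ := hb.2 ⟨x, hx⟩
  exact ⟨u, hu, v, hv, (congrArg Subtype.val e).symm⟩

section

variable (hA : 1 < Nat.card ↥(W ⊓ centralizer ({s} : Set G)))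
include hA

theorem exists_A : ∃ x ∈ W, x * s = s * x ∧ x ≠ 1 := by
  haveI : Nontrivial ↥(W ⊓ centralizer ({s} : Set G)) := Finite.one_lt_card_iff_nontrivial.1 hA
  obtain ⟨⟨x, hx⟩, hne⟩ := exists_ne (1 : ↥(W ⊓ centralizer ({s} : Set G)))
  exact ⟨x, hx.1, mem_centralizer_singleton_iff.1 hx.2, fun e => hne (Subtype.ext e)⟩

theorem no_four {g : G} (hg : g ∈ centA W s) : orderOf g ≠ 4 := fun h => by
  obtain ⟨x, hx, hxs, hne⟩ := D.exists_A hA
  exact hne (D.toData.odd_comm_four h (mem_centA.1 hg x hx hxs) (D.mem_odd hx))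

theorem sq_one {g : G} (hg : g ∈ centA W s) {k : ℕ} (hk : orderOf g = 2 ^ k) : g * g = 1 := by
  rcases k with _ | _ | k
  · rw [pow_zero, orderOf_eq_one_iff] at hk; rw [hk, one_mul]
  · exact Cfsg.Lib.InvolCalc.sq_of_order_two (by simpa using hk)
  · refine absurd ?_ (D.no_four hA (pow_mem hg (2 ^ k)))
    rw [orderOf_pow_of_dvd (by positivity) (hk ▸ pow_dvd_pow 2 (by omega)), hk,
      show k + 1 + 1 = k + 2 by omega, pow_add, Nat.mul_div_cancel_left _ (by positivity)]
    norm_num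

theorem not_eight : ¬ 2 ^ (2 + 1) ∣ Nat.card (centA W s) := by
  haveI : Fact (Nat.Prime 2) := ⟨Nat.prime_two⟩
  intro h
  obtain ⟨P, hP⟩ := Sylow.exists_subgroup_card_pow_prime (G := centA W s) 2 h
  obtain ⟨Q, hQ⟩ := (IsPGroup.of_card (n := 3) (show Nat.card (P.map (centA W s).subtype) = 2 ^ 3 by
    rw [card_map_of_injective (centA W s).subtype_injective, hP])).exists_le_sylow
  have heq : P.map (centA W s).subtype = (Q : Subgroup G) := by
    refine eq_of_le_of_card_ge hQ ?_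
    rw [card_map_of_injective (centA W s).subtype_injective, hP, Q.card_eq_multiplicity,
      ← S.card_eq_multiplicity, D.toData.card_S]
    norm_num
  obtain ⟨c, hc⟩ := MulAction.exists_smul_eq G S Q
  have hm : c * w * c⁻¹ ∈ P.map (centA W s).subtype := by
    rw [heq, ← hc, Sylow.coe_subgroup_smul]
    exact ⟨w, D.wmem, rfl⟩
  exact D.no_four hA (map_subtype_le P hm) (by rw [orderOf_conj, D.hw])

theorem S_centA {d : G} (hd : d ∈ (S : Subgroup G)) (h : d ∈ centA W s) :
    d = 1 ∨ d = w * w ∨ d = s ∨ d = w * w * s := by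
  obtain ⟨x, hx, hxs, hne⟩ := D.exists_A hA
  have hw : w ∉ centA W s := fun h => D.no_four hA h D.hw
  have hws : w * s ∉ centA W s := fun h => hw (by
    simpa [mul_assoc, D.toData.ss] using mul_mem h D.s_centA)
  have hwi : w⁻¹ ∉ centA W s := fun h => hw (inv_inv w ▸ inv_mem h)
  rcases D.toData.S_cases hd with e | e | e | e | e | e | e | e
  · exact Or.inl e
  · exact absurd (e ▸ h) hw
  · exact Or.inr (Or.inl e)
  · exact absurd (e ▸ h) hwi
  · exact Or.inr (Or.inr (Or.inl e))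
  · exact absurd (e ▸ h) hws
  · exact Or.inr (Or.inr (Or.inr e))
  · refine absurd ?_ hwi
    rw [e] at h
    simpa [mul_assoc, D.toData.ss] using mul_mem h D.s_centA

theorem cent_t {g : G} (hg : g ∈ centA W s) (h : g * (w * w) = (w * w) * g) :
    ∃ y ∈ W, ∃ d, (d = 1 ∨ d = w * w ∨ d = s ∨ d = w * w * s) ∧ g = y * d := by
  obtain ⟨y, hy, d, hd, rfl⟩ := D.decomp g h
  exact ⟨y, hy, d, D.S_centA hA hd (((centA W s).mul_mem_cancel_left (D.W_le_centA hy)).1 hg), rfl⟩

theorem card_cent_t : Nat.card ↥(centA W s ⊓ centralizer ({w * w} : Set G)) = 4 * Nat.card W := by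
  rw [← D.card_V, ← Nat.card_prod]
  symm
  have hV : ∀ d ∈ (S : Subgroup G) ⊓ centralizer ({s} : Set G), d ∈ centA W s := by
    rintro d ⟨hd, hds⟩
    rcases D.toData.S_comm_s hd (mem_centralizer_singleton_iff.1 hds) with e | e | e | e <;> rw [e]
    exacts [one_mem _, D.t_centA, D.s_centA, D.ts_centA]
  refine Nat.card_congr (Equiv.ofBijective (fun p => ⟨(p.2 : G) * (p.1 : G),
    mul_mem (D.W_le_centA p.2.2) (hV _ p.1.2), mul_mem (mem_centralizer_singleton_iff.2 (D.mem_t p.2.2))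
      (D.toData.S_le p.1.2.1)⟩) ⟨?_, ?_⟩)
  · rintro ⟨d, x⟩ ⟨e, y⟩ h
    obtain ⟨h1, h2⟩ := D.eq_of_mul_eq x.2 y.2 d.2.1 e.2.1 (congrArg Subtype.val h)
    exact Prod.ext (Subtype.ext h2) (Subtype.ext h1)
  · rintro ⟨g, hg, hgt⟩
    obtain ⟨y, hy, d, hd, rfl⟩ := D.cent_t hA hg (mem_centralizer_singleton_iff.1 hgt)
    have hd' : d ∈ (S : Subgroup G) ⊓ centralizer ({s} : Set G) := by
      rw [mem_inf, mem_centralizer_singleton_iff]
      rcases hd with rfl | rfl | rfl | rfl
      · exact ⟨one_mem _, by simp⟩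
      · exact ⟨mul_mem D.wmem D.wmem, D.toData.ts⟩
      · exact ⟨D.smem, rfl⟩
      · refine ⟨mul_mem (mul_mem D.wmem D.wmem) D.smem, ?_⟩
        rw [← mul_assoc s, ← D.toData.ts]
    exact ⟨(⟨d, hd'⟩, ⟨y, hy⟩), rfl⟩

/-- An element of `C(A)` permuting `w²`, `w² s`, `s` cyclically. -/
theorem exists_cycle : ∃ c ∈ centA W s,
    c * (w * w) * c⁻¹ = w * w * s ∧ c * (w * w * s) * c⁻¹ = s ∧ c * s * c⁻¹ = w * w := by
  obtain ⟨g, r, hg, hgr, hr, hrt⟩ := D.toData.exists_move
  set v := g * w * g⁻¹ with hv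
  have hv_s : v * s * v⁻¹ = s := by rw [hv, ← hg]; group
  have hv_t : v * (w * w) * v⁻¹ = s * (w * w) := by
    rw [hv]
    calc g * w * g⁻¹ * (w * w) * (g * w * g⁻¹)⁻¹
        = g * w * g⁻¹ * (g * r * g⁻¹) * (g * w * g⁻¹)⁻¹ := by rw [hgr]
      _ = g * (w * r * w⁻¹) * g⁻¹ := by group
      _ = (g * (w * w) * g⁻¹) * (g * r * g⁻¹) := by rw [hr]; group
      _ = _ := by rw [hg, hgr]
  refine ⟨v * w, mem_centA.2 fun x hx hxs => ?_, ?_, ?_, ?_⟩
  · have hxW : g⁻¹ * x * g ∈ W := by
      refine (D.mem _).2 ⟨?_, by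
        have e := orderOf_conj g⁻¹ x
        rw [inv_inv] at e
        rw [e]; exact D.mem_odd hx⟩
      apply conj_inj g
      rw [show g * (g⁻¹ * x * g * (w * w)) * g⁻¹ = x * (g * (w * w) * g⁻¹) by group,
        show g * (w * w * (g⁻¹ * x * g)) * g⁻¹ = (g * (w * w) * g⁻¹) * x by group, hg, hxs]
    have hvx : v * x⁻¹ * v⁻¹ = x := by
      rw [hv]
      calc g * w * g⁻¹ * x⁻¹ * (g * w * g⁻¹)⁻¹ = g * (w * (g⁻¹ * x * g)⁻¹ * w⁻¹) * g⁻¹ := by group
        _ = g * (g⁻¹ * x * g) * g⁻¹ := by rw [D.inverts (inv_mem hxW), inv_inv]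
        _ = x := by group
    have h1 : (v * w) * x * (v * w)⁻¹ = x := by
      rw [show (v * w) * x * (v * w)⁻¹ = v * (w * x * w⁻¹) * v⁻¹ by group, D.inverts hx, hvx]
    exact (mul_inv_eq_iff_eq_mul.1 h1).symm
  · rw [show v * w * (w * w) * (v * w)⁻¹ = v * (w * w) * v⁻¹ by group, hv_t, D.toData.ts]
  · rw [show v * w * (w * w * s) * (v * w)⁻¹ = v * (w * w) * (w * s * w⁻¹) * v⁻¹ by group,
      D.toData.ws_conj, ← mul_assoc (v * (w * w)), mul_assoc v (w * w) (w * w), D.toData.w4, mul_one,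
      hv_s]
  · rw [show v * w * s * (v * w)⁻¹ = v * (w * s * w⁻¹) * v⁻¹ by group, D.toData.ws_conj,
      show v * (w * w * s) * v⁻¹ = (v * (w * w) * v⁻¹) * (v * s * v⁻¹) by group, hv_t, hv_s,
      ← D.toData.ts, mul_assoc, D.toData.ss, mul_one]

theorem inv_conj_centA {g : G} (hg : g ∈ centA W s) (h : orderOf g = 2) :
    ∃ c ∈ centA W s, g = c * (w * w) * c⁻¹ := by
  have hV : (S : Subgroup G) ⊓ centralizer ({s} : Set G) ≤ centA W s := by
    rintro d ⟨hd, hds⟩
    rcases D.toData.S_comm_s hd (mem_centralizer_singleton_iff.1 hds) with e | e | e | e <;> rw [e]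
    exacts [one_mem _, D.t_centA, D.s_centA, D.ts_centA]
  obtain ⟨c, hc, hcV⟩ := exists_conj_in hV (k := 2) (by rw [D.card_V]; norm_num) (D.not_eight hA)
    (IsPGroup.of_card (n := 1) (by rw [Nat.card_zpowers, h, pow_one]) : IsPGroup 2 (zpowers g))
    (zpowers_le.2 hg)
  have h2 := hcV g (mem_zpowers g)
  have key : ∃ e ∈ centA W s, c * g * c⁻¹ = e * (w * w) * e⁻¹ := by
    obtain ⟨e, he, e1, e2, -⟩ := D.exists_cycle hA
    rcases D.toData.S_comm_s h2.1 (mem_centralizer_singleton_iff.1 h2.2) with k | k | k | k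
    · rw [conj_eq_one_iff] at k; rw [k, orderOf_one] at h; omega
    · exact ⟨1, one_mem _, by rw [k]; group⟩
    · exact ⟨e * e, mul_mem he he, by
        rw [k, show e * e * (w * w) * (e * e)⁻¹ = e * (e * (w * w) * e⁻¹) * e⁻¹ by group, e1, e2]⟩
    · exact ⟨e, he, by rw [k, e1]⟩
  obtain ⟨e, he, hk⟩ := key
  exact ⟨c⁻¹ * e, mul_mem (inv_mem hc) he, by
    rw [show c⁻¹ * e * (w * w) * (c⁻¹ * e)⁻¹ = c⁻¹ * (e * (w * w) * e⁻¹) * c by group, ← hk]; group⟩

variable (hB : 1 < Nat.card ↥(W ⊓ centralizer ({w * s} : Set G)))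
include hB

theorem not_comm_W {d : G} (hd : d = s ∨ d = w * w * s) : ∃ x ∈ W, x * d ≠ d * x := by
  obtain ⟨x, hx, hxw, hne⟩ := D.swap.exists_A hB
  refine ⟨x, hx, fun h => hne ?_⟩
  have hxs : x * s = s * x := by
    rcases hd with e | e <;> subst e
    · exact h
    · refine mul_left_cancel (a := w * w) ?_
      calc (w * w) * (x * s) = ((w * w) * x) * s := by group
        _ = (x * (w * w)) * s := by rw [D.mem_t hx]
        _ = x * (w * w * s) := by group
        _ = w * w * s * x := h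
        _ = (w * w) * (s * x) := by group
  refine D.toData.odd_comm_four D.hw ?_ (D.mem_odd hx)
  calc x * w = x * (w * s) * s := by rw [mul_assoc x, mul_assoc w, D.toData.ss, mul_one]
    _ = w * (s * x) * s := by rw [hxw]; group
    _ = w * x * (s * s) := by rw [← hxs]; group
    _ = w * x := by rw [D.toData.ss, mul_one]

theorem centW_le : centralizer (W : Set G) ≤ centA W s := fun _ hg =>
  mem_centA.2 fun x hx _ => mem_centralizer_iff.1 hg x hx

/-- The elements of odd order centralising `W` form a subgroup. -/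
theorem exists_L : ∃ L : Subgroup G,
    ∀ x, x ∈ L ↔ (∀ y ∈ W, y * x = x * y) ∧ ¬ 2 ∣ orderOf x := by
  haveI : Fact (Nat.Prime 2) := ⟨Nat.prime_two⟩
  set H := centralizer (W : Set G) with hH
  have ht : w * w ∈ H := mem_centralizer_iff.2 fun y hy => D.mem_t hy
  have h4 : ¬ 4 ∣ Nat.card H := by
    intro h4
    obtain ⟨R, hR⟩ := ((IsPGroup.of_card (n := 1) (by rw [Nat.card_zpowers, D.toData.t_order, pow_one]) :
      IsPGroup 2 (zpowers (w * w))).of_equiv (subgroupOfEquivOfLe (zpowers_le.2 ht)).symm).exists_le_sylow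
    have hexp : ∀ r ∈ (R : Subgroup H), (r : G) * r = 1 := by
      intro r hr
      obtain ⟨k, hk⟩ := IsPGroup.iff_orderOf.1 R.2 ⟨r, hr⟩
      rw [Subgroup.orderOf_mk] at hk
      exact D.sq_one hA (D.centW_le hA hB r.2) (k := k) (by rw [Subgroup.orderOf_coe, hk])
    have hsub : ∀ r ∈ (R : Subgroup H), (r : G) = 1 ∨ (r : G) = w * w := by
      intro r hr
      have h1 := hexp r hr
      have h2 := hexp (r * ⟨w * w, ht⟩) (mul_mem hr (hR (mem_subgroupOf.2 (mem_zpowers _))))
      have hcm : (r : G) * (w * w) = (w * w) * r := by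
        rw [Subgroup.coe_mul] at h2
        calc (r : G) * (w * w) = ((r : G) * (w * w))⁻¹ := eq_inv_of_mul_eq_one_left h2
          _ = (w * w) * r := by
            rw [mul_inv_rev, inv_eq_of_mul_eq_one_right D.toData.w4, inv_eq_of_mul_eq_one_right h1]
      obtain ⟨y, hy, d, hd, he⟩ := D.cent_t hA (D.centW_le hA hB r.2) hcm
      have hd2 : d = 1 ∨ d = w * w := by
        have hdH : d ∈ H := by
          have hyH : y ∈ H := mem_centralizer_iff.2 fun z hz => D.comm hz hy
          exact (H.mul_mem_cancel_left hyH).1 (he ▸ r.2)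
        have hns : ∀ e, e = s ∨ e = w * w * s → d ≠ e := fun e he' hde => by
          obtain ⟨x, hx, hne⟩ := D.not_comm_W hA hB he'
          exact hne (hde ▸ mem_centralizer_iff.1 hdH x hx)
        rcases hd with e | e | e | e
        · exact Or.inl e
        · exact Or.inr e
        · exact absurd e (hns s (Or.inl rfl))
        · exact absurd e (hns _ (Or.inr rfl))
      have hy1 : y = 1 := by
        refine odd_sq_eq_one (D.mem_odd hy) ?_
        rcases hd2 with e | e <;> rw [e] at he <;> rw [he] at h1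
        · simpa using h1
        · calc y * y = y * y * ((w * w) * (w * w)) := by rw [D.toData.w4, mul_one]
            _ = y * (y * (w * w)) * (w * w) := by group
            _ = y * ((w * w) * y) * (w * w) := by rw [D.mem_t hy]
            _ = y * (w * w) * (y * (w * w)) := by group
            _ = 1 := h1
      rw [hy1, one_mul] at he
      rcases hd2 with e | e <;> rw [e] at he <;> simp [he]
    have hle : Nat.card (R : Subgroup H) ≤ 2 := by
      classical
      have hinj : Function.Injective fun r : (R : Subgroup H) => decide (((r : H) : G) = 1) := by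
        intro p q hpq
        simp only [decide_eq_decide] at hpq
        refine Subtype.ext (Subtype.ext ?_)
        rcases hsub p p.2 with a | a <;> rcases hsub q q.2 with b | b
        · rw [a, b]
        · rw [a, hpq.1 a]
        · rw [hpq.2 b, b]
        · rw [a, b]
      simpa using Nat.card_le_card_of_injective _ hinj
    have h4' : 4 ∣ Nat.card (R : Subgroup H) := by
      rw [show (4 : ℕ) = 2 ^ 2 by norm_num, R.card_eq_multiplicity]
      exact pow_dvd_pow 2 ((Nat.prime_two.pow_dvd_iff_le_factorization Nat.card_pos.ne').1 (by simpa using h4))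
    have := Nat.le_of_dvd Nat.card_pos h4'
    omega
  obtain ⟨L, hL, -, -⟩ := exists_half H h4 ht D.toData.t_order
  exact ⟨L, fun x => by rw [hL, hH, mem_centralizer_iff]; rfl⟩

end

end Core

end Cfsg.Lib.SelfCentFour
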