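import Cfsg.Agent.SelfCentFour.Basic

/-!
Fusion and the centraliser of the involution `w²`.
-/

set_option autoImplicit false
set_option linter.unusedSectionVars false
set_option linter.style.haveILetI false

namespace Cfsg.Lib.SelfCentFour

open Subgroup

universe u

variable {G : Type u} [Group G] [Finite G]

namespace Data

variable {S : Sylow 2 G} {w s : G} (D : Data S w s)
include D

theorem zp_relIndex : (zpowers w).relIndex (S : Subgroup G) = 2 := by
  rw [relIndex_eq_two_iff]
  refine ⟨s, D.smem, fun b hb => ?_⟩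
  rcases D.hS b hb with h | h
  · refine Or.inr ⟨h, fun h' => D.s_not_zp ?_⟩
    exact ((zpowers w).mul_mem_cancel_left h).1 h'
  · refine Or.inl ⟨h, fun h' => D.s_not_zp ?_⟩
    exact ((zpowers w).mul_mem_cancel_left h').1 h

theorem card_S : Nat.card (S : Subgroup G) = 8 := by
  have h := card_mul_index ((zpowers w).subgroupOf (S : Subgroup G))
  rw [Nat.card_congr (subgroupOfEquivOfLe (zpowers_le.2 D.wmem)).toEquiv, Nat.card_zpowers, D.hw] at h
  have h2 : ((zpowers w).subgroupOf (S : Subgroup G)).index = 2 := D.zp_relIndex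
  rw [h2] at h
  omega

theorem card_G_pos : 8 ∣ Nat.card G := D.card_S ▸ (S : Subgroup G).card_subgroup_dvd_card

theorem no_index_two (M : Subgroup G) (hM : M.Normal) : M.index ≠ 2 := by
  intro h
  have := D.simple
  rcases hM.eq_bot_or_eq_top with rfl | rfl
  · rw [index_bot] at h
    have := Nat.le_of_dvd Nat.card_pos D.card_G_pos
    omega
  · rw [index_top] at h; omega

theorem refl_conj {r : G} (hr : r ∈ (S : Subgroup G)) (hrw : r ∉ zpowers w) :
    IsConj (w * w) r := by
  have : Fact (Nat.Prime 2) := ⟨Nat.prime_two⟩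
  by_contra hne
  have hodd : Odd (S : Subgroup G).index :=
    Nat.not_even_iff_odd.1 fun h => S.not_dvd_index (even_iff_two_dvd.1 h)
  have hQ : (zpowers w).index = 2 * (S : Subgroup G).index := by
    rw [← relIndex_mul_index (zpowers_le.2 D.wmem), D.zp_relIndex]
  have hro := D.refl_two hr hrw
  obtain ⟨M, hM, hi, -⟩ := Cfsg.Lib.Transfer.exists_index_two_not_mem (zpowers w) hodd hQ hro
    fun g hg => by
      have ho : orderOf (g⁻¹ * r * g) = 2 := by
        rw [← hro]; simpa using orderOf_conj g⁻¹ r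
      rcases D.zp_cases hg with e | e | e | e
      · rw [e, orderOf_one] at ho; omega
      · rw [e, D.hw] at ho; omega
      · exact hne (isConj_iff.2 ⟨g, by rw [← e]; group⟩)
      · rw [e, orderOf_inv, D.hw] at ho; omega
  exact D.no_index_two M hM hi

theorem inv_conj {x : G} (hx : orderOf x = 2) : IsConj (w * w) x := by
  obtain ⟨g, hg⟩ := Cfsg.Lib.TwoFusion.exists_conj_mem_sylow S (k := 1) hx
  have hc : IsConj x (g * x * g⁻¹) := isConj_iff.2 ⟨g, rfl⟩
  have ho : orderOf (g * x * g⁻¹) = 2 := by rw [orderOf_conj, hx]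
  refine IsConj.trans ?_ hc.symm
  by_cases hm : g * x * g⁻¹ ∈ zpowers w
  · rcases D.zp_cases hm with e | e | e | e <;> rw [e] at ho
    · rw [orderOf_one] at ho; omega
    · rw [D.hw] at ho; omega
    · rw [e]
    · rw [orderOf_inv, D.hw] at ho; omega
  · exact D.refl_conj hg hm

theorem four_conj {g : G} (hg : orderOf g = 4) : IsConj w g := by
  obtain ⟨c, hc⟩ := Cfsg.Lib.TwoFusion.exists_conj_mem_sylow S (k := 2) hg
  have ho : orderOf (c * g * c⁻¹) = 4 := by rw [orderOf_conj, hg]
  have hm : c * g * c⁻¹ ∈ zpowers w := by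
    by_contra hm
    rw [D.refl_two hc hm] at ho
    omega
  refine IsConj.trans ?_ (isConj_iff.2 ⟨c, rfl⟩ : IsConj g (c * g * c⁻¹)).symm
  rcases D.zp_cases hm with e | e | e | e <;> rw [e] at ho
  · rw [orderOf_one] at ho; omega
  · rw [e]
  · rw [D.t_order] at ho; omega
  · rw [e]; exact isConj_iff.2 ⟨s, D.s_w_conj⟩

/-- No element of odd order centralises an element of order four. -/
theorem odd_comm_four {g x : G} (hg : orderOf g = 4) (hx : x * g = g * x)
    (hodd : Odd (orderOf x)) : x = 1 := by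
  obtain ⟨c, hc⟩ := isConj_iff.1 (D.four_conj hg).symm
  have h1 := D.hC (c * x * c⁻¹) (by rw [← hc]; exact commute_conj c hx)
  have h2 : orderOf (c * x * c⁻¹) ∣ 4 := by
    rw [← D.hw, orderOf_dvd_iff_pow_eq_one]
    obtain ⟨i, hi⟩ := mem_zpowers_iff.1 h1
    rw [← hi, ← zpow_natCast, ← zpow_mul, mul_comm, zpow_mul, zpow_natCast, pow_orderOf_eq_one,
      one_zpow]
  rw [orderOf_conj] at h2
  rw [← orderOf_eq_one_iff]
  exact Nat.eq_one_of_dvd_coprimes
    (Nat.Coprime.pow_left 2 ((Nat.prime_two.coprime_iff_not_dvd).2 hodd.not_two_dvd_nat))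
    (show orderOf x ∣ 2 ^ 2 by norm_num; exact h2) dvd_rfl

theorem S_le : (S : Subgroup G) ≤ centralizer ({w * w} : Set G) := fun x hx => by
  refine mem_centralizer_singleton_iff.2 ?_
  have hw' : ∀ y ∈ zpowers w, y * (w * w) = (w * w) * y := fun y hy => by
    obtain ⟨i, rfl⟩ := mem_zpowers_iff.1 hy
    exact (((Commute.refl w).zpow_left i).mul_right ((Commute.refl w).zpow_left i)).eq
  rcases D.hS x hx with h | h
  · exact hw' x h
  · have h1 := hw' _ h
    have h2 : x = x * s * s := by rw [mul_assoc, D.ss, mul_one]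
    rw [h2]
    calc x * s * s * (w * w) = x * s * (s * (w * w)) := by group
      _ = x * s * ((w * w) * s) := by rw [D.ts]
      _ = x * s * (w * w) * s := by group
      _ = (w * w) * (x * s) * s := by rw [h1]
      _ = (w * w) * (x * s * s) := by group

theorem closure_S : Subgroup.closure ({w * s, s} : Set G) = (S : Subgroup G) := by
  refine le_antisymm ((closure_le _).2 ?_) fun x hx => ?_
  · rintro y (rfl | rfl)
    · exact mul_mem D.wmem D.smem
    · exact D.smem
  · have hsm : s ∈ Subgroup.closure ({w * s, s} : Set G) := subset_closure (by simp)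
    have hwm : w ∈ Subgroup.closure ({w * s, s} : Set G) := by
      have := mul_mem (subset_closure (by simp) : w * s ∈ Subgroup.closure ({w * s, s} : Set G)) hsm
      rwa [mul_assoc, D.ss, mul_one] at this
    rcases D.hS x hx with h | h
    · exact zpowers_le.2 hwm h
    · rw [show x = x * s * s by rw [mul_assoc, D.ss, mul_one]]
      exact mul_mem (zpowers_le.2 hwm h) hsm

theorem complement : Cfsg.HasNormalPComplement 2 (centralizer ({w * w} : Set G)) := by
  have : Fact (Nat.Prime 2) := ⟨Nat.prime_two⟩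
  set C := centralizer ({w * w} : Set G) with hCd
  obtain ⟨e⟩ := Cfsg.Lib.InvolCalc.exists_dihedral_equiv D.ws_order D.hs fun h => D.w_ne (by
    calc w = w * s * s := by rw [mul_assoc, D.ss, mul_one]
      _ = 1 := by rw [h, D.ss])
  rw [show w * s * s = w by rw [mul_assoc, D.ss, mul_one], D.hw, D.closure_S] at e
  refine (Cfsg.Agent.S1254.result (S.subtype D.S_le) 4 (by norm_num)
    ((subgroupOfEquivOfLe D.S_le).trans e)).2 fun U hUS hU => ?_
  refine le_antisymm (fun n hn => ?_) (sup_le (centralizer_le_normalizer _) inf_le_right)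
  let T : C := ⟨w * w, mem_centralizer_singleton_iff.2 rfl⟩
  let W : C := ⟨w, D.S_le D.wmem⟩
  have hU4 : Nat.card U = 4 := hU.card_four
  have hsq : ∀ u ∈ U, (u : G) * u = 1 := fun u hu => by
    haveI := hU
    have := IsKleinFour.mul_self (⟨u, hu⟩ : U)
    exact congrArg (fun z : U => ((z : C) : G)) this
  have hSm : ∀ u ∈ U, (u : G) ∈ (S : Subgroup G) := fun u hu => hUS hu
  have hzp : ∀ u ∈ U, (u : G) ∈ zpowers w → u = 1 ∨ u = T := by
    intro u hu h
    have h2 := hsq u hu
    rcases D.zp_cases h with e | e | e | e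
    · exact Or.inl (Subtype.ext e)
    · rw [e] at h2; exact absurd h2 D.t_ne
    · exact Or.inr (Subtype.ext e)
    · rw [e, ← mul_inv_rev, inv_eq_one] at h2
      exact absurd h2 D.t_ne
  -- `T` lies in `U`
  have hTU : T ∈ U := by
    by_contra hT
    have hall : ∀ u ∈ U, (u : G) ∈ zpowers w → u = 1 := fun u hu h =>
      (hzp u hu h).resolve_right fun e => hT (e ▸ hu)
    have hinj : Function.Injective fun u : U => decide (((u : C) : G) ∈ zpowers w) := by
      intro u v huv
      simp only [decide_eq_decide] at huv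
      have h1 : ((u⁻¹ * v : U) : C) = 1 := by
        refine hall _ (u⁻¹ * v).2 ?_
        show ((u : C) : G)⁻¹ * ((v : C) : G) ∈ zpowers w
        by_cases hu1 : ((u : C) : G) ∈ zpowers w
        · exact mul_mem (inv_mem hu1) (huv.1 hu1)
        · have hv1 : ((v : C) : G) ∉ zpowers w := fun h => hu1 (huv.2 h)
          have a := (D.hS _ (hSm _ u.2)).resolve_left hu1
          have b := (D.hS _ (hSm _ v.2)).resolve_left hv1
          have hui : ((u : C) : G)⁻¹ = (u : C) := inv_eq_of_mul_eq_one_right (hsq _ u.2)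
          have hvi : ((v : C) : G)⁻¹ = (v : C) := inv_eq_of_mul_eq_one_right (hsq _ v.2)
          rw [show ((u : C) : G)⁻¹ * ((v : C) : G) = ((u : C) : G) * s * (((v : C) : G) * s)⁻¹ by
            rw [mul_inv_rev, D.s_inv, hvi, hui]
            calc ((u : C) : G) * (v : C) = (u : C) * 1 * (v : C) := by rw [mul_one]
              _ = (u : C) * (s * s) * (v : C) := by rw [D.ss]
              _ = _ := by group]
          exact mul_mem a (inv_mem b)
      have h2 : u⁻¹ * v = 1 := Subtype.ext h1
      exact inv_mul_eq_one.1 h2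
    have := Nat.card_le_card_of_injective _ hinj
    rw [hU4] at this
    simp at this
  have hnN := mem_normalizer_iff.1 hn
  have hTn : n * T * n⁻¹ = T := by
    apply Subtype.ext
    show (n : G) * (w * w) * (n : G)⁻¹ = w * w
    rw [mem_centralizer_singleton_iff.1 n.2, mul_inv_cancel_right]
  by_cases hz : ∀ u ∈ U, n * u * n⁻¹ = u
  · refine mem_sup_left (mem_centralizer_iff.2 fun u hu => ?_)
    have h := hz u hu
    rw [mul_inv_eq_iff_eq_mul] at h
    exact h.symm
  push Not at hz
  obtain ⟨u, hu, hne⟩ := hz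
  have hu1 : u ≠ 1 := fun e => hne (by rw [e]; simp)
  have huT : u ≠ T := fun e => hne (by rw [e]; exact hTn)
  have huz : (u : G) ∉ zpowers w := fun h => (hzp u hu h).elim hu1 huT
  -- the elements of `U`
  have hUall : ∀ v ∈ U, v = 1 ∨ v = T ∨ v = u ∨ v = T * u := by
    intro v hv
    by_cases hvz : (v : G) ∈ zpowers w
    · exact (hzp v hv hvz).imp id Or.inl
    · have h1 : (v : G) * (u : G) ∈ zpowers w := by
        have hui : (u : G)⁻¹ = u := inv_eq_of_mul_eq_one_right (hsq _ hu)
        have a := (D.hS _ (hSm _ hv)).resolve_left hvz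
        have b := (D.hS _ (hSm _ hu)).resolve_left huz
        rw [show (v : G) * (u : G) = (v : G) * s * ((u : G) * s)⁻¹ by
          rw [mul_inv_rev, D.s_inv, hui]
          calc (v : G) * u = v * 1 * u := by rw [mul_one]
            _ = v * (s * s) * u := by rw [D.ss]
            _ = _ := by group]
        exact mul_mem a (inv_mem b)
      have huu : u * u = 1 := Subtype.ext (hsq u hu)
      rcases hzp _ (mul_mem hv hu) h1 with e | e
      · right; right; left
        rw [← mul_one v, ← huu, ← mul_assoc, e, one_mul]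
      · right; right; right
        rw [← mul_one v, ← huu, ← mul_assoc, e]
  have hWu : W * u * W⁻¹ = T * u := by
    apply Subtype.ext
    show w * (u : G) * w⁻¹ = w * w * (u : G)
    have hr := D.refl_two (hSm u hu) huz
    have a := (D.hS _ (hSm _ hu)).resolve_left huz
    obtain ⟨i, hi⟩ := mem_zpowers_iff.1 a
    have hu' : (u : G) = w ^ i * s := by rw [hi, mul_assoc, D.ss, mul_one]
    rw [hu']
    calc w * (w ^ i * s) * w⁻¹ = w ^ (i + 1) * (s * w⁻¹) := by rw [zpow_add_one]; group
      _ = w ^ (i + 1) * (w * s) := by rw [D.ws]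
      _ = w * w * (w ^ i * s) := by group
  have hWT : W * T * W⁻¹ = T := Subtype.ext (by show w * (w * w) * w⁻¹ = w * w; group)
  have hWN : W ∈ (normalizer (U : Set C)) := by
    rw [mem_normalizer_iff]
    have key : ∀ v ∈ U, W * v * W⁻¹ ∈ U := by
      intro v hv
      rcases hUall v hv with rfl | rfl | rfl | rfl
      · simp
      · rw [hWT]; exact hTU
      · rw [hWu]; exact mul_mem hTU hu
      · rw [show W * (T * u) * W⁻¹ = (W * T * W⁻¹) * (W * u * W⁻¹) by group, hWT, hWu]
        exact mul_mem hTU (mul_mem hTU hu)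
    intro v
    refine ⟨key v, fun hv => ?_⟩
    have hmap : ∀ x : U, ∃ y : U, W * (y : C) * W⁻¹ = x := by
      let f : U → U := fun x => ⟨W * x * W⁻¹, key x x.2⟩
      have hf : Function.Injective f := fun x y h => Subtype.ext
        (mul_left_cancel (mul_right_cancel (congrArg Subtype.val h)))
      intro x
      obtain ⟨y, hy⟩ := (Finite.injective_iff_surjective.1 hf) x
      exact ⟨y, congrArg Subtype.val hy⟩
    obtain ⟨y, hy⟩ := hmap ⟨_, hv⟩
    have : (y : C) = v := mul_left_cancel (mul_right_cancel hy)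
    exact this ▸ y.2
  have hnu : n * u * n⁻¹ = T * u := by
    rcases hUall _ ((hnN u).1 hu) with e | e | e | e
    · exact absurd (conj_eq_one_iff.1 e) hu1
    · exact absurd (mul_left_cancel (mul_right_cancel (e.trans hTn.symm))) huT
    · exact absurd e hne
    · exact e
  have hWS : W ∈ (S.subtype D.S_le : Subgroup C) := show w ∈ (S : Subgroup G) from D.wmem
  have hmem : W⁻¹ * n ∈ centralizer (U : Set C) := by
    refine mem_centralizer_iff.2 fun v hv => ?_
    have hfix : W⁻¹ * n * v * (W⁻¹ * n)⁻¹ = v := by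
      have eu : W⁻¹ * n * u * (W⁻¹ * n)⁻¹ = u := by
        calc W⁻¹ * n * u * (W⁻¹ * n)⁻¹ = W⁻¹ * (n * u * n⁻¹) * W := by group
          _ = W⁻¹ * (W * u * W⁻¹) * W := by rw [hnu, hWu]
          _ = u := by group
      have eT : W⁻¹ * n * T * (W⁻¹ * n)⁻¹ = T := by
        calc W⁻¹ * n * T * (W⁻¹ * n)⁻¹ = W⁻¹ * (n * T * n⁻¹) * W := by group
          _ = W⁻¹ * (W * T * W⁻¹) * W := by rw [hTn, hWT]
          _ = T := by group
      rcases hUall v hv with rfl | rfl | rfl | rfl
      · simp
      · exact eT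
      · exact eu
      · calc W⁻¹ * n * (T * u) * (W⁻¹ * n)⁻¹
            = (W⁻¹ * n * T * (W⁻¹ * n)⁻¹) * (W⁻¹ * n * u * (W⁻¹ * n)⁻¹) := by group
          _ = T * u := by rw [eT, eu]
    rw [mul_inv_eq_iff_eq_mul] at hfix
    exact hfix.symm
  rw [show n = W * (W⁻¹ * n) by group]
  exact mul_mem (mem_sup_right ⟨hWS, hWN⟩) (mem_sup_left hmem)

/-- The odd part of the centraliser of `w²`. -/
theorem exists_core : ∃ W : Subgroup G, (∀ x : G, x ∈ W ↔ x * (w * w) = (w * w) * x ∧ Odd (orderOf x)) ∧
    (∀ c : G, c * (w * w) = (w * w) * c → ∃ x ∈ W, ∃ d ∈ (S : Subgroup G), c = x * d) ∧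
    Nat.card (centralizer ({w * w} : Set G)) = 8 * Nat.card W := by
  have : Fact (Nat.Prime 2) := ⟨Nat.prime_two⟩
  haveI := Fintype.ofFinite G
  obtain ⟨L, hL, hc, hd⟩ := Cfsg.Lib.Dihedral.exists_oddPart _ D.complement
  have h3 : (Nat.card (centralizer ({w * w} : Set G))).factorization 2 = 3 := by
    have h1 : (Nat.card G).factorization 2 = 3 := by
      have := S.card_eq_multiplicity
      rw [D.card_S, show (8 : ℕ) = 2 ^ 3 by norm_num] at this
      exact (Nat.pow_right_injective le_rfl this).symm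
    refine le_antisymm ((((Nat.factorization_le_iff_dvd (Nat.card_pos.ne') (Nat.card_pos.ne')).2
      (card_subgroup_dvd_card _)) 2).trans h1.le) ?_
    refine (Nat.prime_two.pow_dvd_iff_le_factorization Nat.card_pos.ne').1 ?_
    rw [show 2 ^ 3 = Nat.card (S : Subgroup G) by rw [D.card_S]; norm_num]
    exact card_dvd_of_le D.S_le
  rw [h3] at hc hd
  refine ⟨L, fun x => ?_, fun c hcc => hd S D.S_le S.2 (by rw [D.card_S]; norm_num) c
    (mem_centralizer_singleton_iff.2 hcc), by rw [hc]; norm_num⟩
  rw [hL, mem_centralizer_singleton_iff, ← Nat.not_even_iff_odd, even_iff_two_dvd]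

end Data

end Cfsg.Lib.SelfCentFour
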