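import Cfsg.Agent.SelfCentFour.Core
import Cfsg.Agent.Blocks.Feit3
import Cfsg.Agent.InvolCalc.DihedralEightCentralizer

/-!
The three degrees of the principal block and the two equations they give for the order of the group.
-/

set_option autoImplicit false
set_option linter.unusedSectionVars false
set_option linter.style.haveILetI false

namespace Cfsg.Lib.SelfCentFour

open Subgroup Cfsg.Lib.Chars Cfsg.Lib.Blocks
open scoped ComplexConjugate

universe u

variable {G : Type u} [Group G] [Finite G]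

namespace Data

variable {S : Sylow 2 G} {w s : G} (D : Data S w s)
include D

theorem dihedral : Cfsg.Lib.Dihedral.Data S w s 2 :=
  ⟨le_rfl, D.wmem, D.smem, by rw [D.hw]; norm_num, D.ss, D.s_w_conj, D.hS⟩

theorem cent_w : Nat.card (centralizer ({w} : Set G)) = 4 := by
  have h : centralizer ({w} : Set G) = zpowers w :=
    le_antisymm (fun x hx => D.hC x (mem_centralizer_singleton_iff.1 hx))
      (zpowers_le.2 (mem_centralizer_singleton_iff.2 rfl))
  rw [h, Nat.card_zpowers, D.hw]

/-- The involutions whose product with `w` is an involution are the reflections. -/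
theorem inverts_w {p : G} (h1 : p * w * p⁻¹ = w⁻¹) : p * s ∈ zpowers w := by
  refine D.hC _ ?_
  have h2 : s * w * s⁻¹ = w⁻¹ := D.s_w_conj
  have h3 : p * s * w * (p * s)⁻¹ = w := by
    rw [show p * s * w * (p * s)⁻¹ = p * (s * w * s⁻¹) * p⁻¹ by group, h2,
      show p * w⁻¹ * p⁻¹ = (p * w * p⁻¹)⁻¹ by group, h1, inv_inv]
  exact mul_inv_eq_iff_eq_mul.1 h3

theorem pairs : Nat.card {p : G × G // IsConj (w * w) p.1 ∧ IsConj (w * w) p.2 ∧ p.1 * p.2 = w} = 4 := by
  haveI := Fintype.ofFinite G
  rw [Cfsg.Lib.Dihedral.card_pairs_eq D.t_order (fun x hx => D.inv_conj hx) w, ← D.hw,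
    ← Nat.card_zpowers]
  have hk : ∀ k ∈ zpowers w, k * s * (k * s) = 1 ∧ k * s ≠ 1 ∧ k * s * w * (k * s * w) = 1 ∧
      k * s * w ≠ 1 := by
    intro k hk
    have hks : k * s ∉ zpowers w := fun h => D.s_not_zp (((zpowers w).mul_mem_cancel_left hk).1 h)
    have hksw : k * s * w ∉ zpowers w := fun h =>
      hks (((zpowers w).mul_mem_cancel_right (mem_zpowers w)).1 h)
    have hkS : k * s ∈ (S : Subgroup G) := mul_mem (zpowers_le.2 D.wmem hk) D.smem
    have h1 := D.refl_two hkS hks
    have h2 := D.refl_two (mul_mem hkS D.wmem) hksw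
    exact ⟨Cfsg.Lib.InvolCalc.sq_of_order_two h1, fun e => hks (e ▸ one_mem _),
      Cfsg.Lib.InvolCalc.sq_of_order_two h2, fun e => hksw (e ▸ one_mem _)⟩
  refine Nat.card_congr
    { toFun := fun p => ⟨p.1 * s, D.inverts_w (by
        obtain ⟨h1, -, h3, -⟩ := p.2
        have e1 : p.1⁻¹ = p.1 := inv_eq_of_mul_eq_one_right h1
        rw [e1]
        refine eq_inv_of_mul_eq_one_left ?_
        simpa [mul_assoc] using h3)⟩
      invFun := fun k => ⟨k.1 * s, hk k.1 k.2⟩
      left_inv := fun p => Subtype.ext (by show p.1 * s * s = p.1; rw [mul_assoc, D.ss, mul_one])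
      right_inv := fun k => Subtype.ext (by show k.1 * s * s = k.1; rw [mul_assoc, D.ss, mul_one]) }

/-- The congruence coming from the Sylow subgroup. -/
theorem congr [Fintype G] (χ : IrrCharacter G) {δ ε : ℤ} (ht : (χ : G → ℂ) (w * w) = δ)
    (hw : (χ : G → ℂ) w = ε) : (8 : ℤ) ∣ (deg (χ : G → ℂ) : ℤ) + 5 * δ + 2 * ε := by
  classical
  set T := Finset.univ.filter (fun x : G => x ∈ (S : Subgroup G)) with hT
  have hTc : T.card = 8 := by
    rw [← D.card_S, Nat.card_eq_fintype_card, hT, Fintype.card_subtype]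
  obtain ⟨m, hm⟩ := Cfsg.Lib.DihedralCent.sum_subgroup_dvd (χ := χ) (S : Subgroup G) T
    (fun x hx => (Finset.mem_filter.1 hx).2) (by rw [hTc, D.card_S])
  have hcl := isClassFunction_irr χ
  have hwi : (χ : G → ℂ) w⁻¹ = ε := by rw [← D.s_w_conj, hcl, hw]
  have hne : w⁻¹ ≠ w := fun e => D.t_ne (by nth_rw 1 [← e]; exact inv_mul_cancel w)
  have hwi1 : w⁻¹ ≠ 1 := fun e => D.w_ne (inv_eq_one.1 e)
  have hval : ∀ x ∈ T, (χ : G → ℂ) x = δ + (if x = 1 then (deg (χ : G → ℂ) : ℂ) - δ else 0) +
      (if x = w then (ε : ℂ) - δ else 0) + (if x = w⁻¹ then (ε : ℂ) - δ else 0) := by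
    intro x hx
    have hxS := (Finset.mem_filter.1 hx).2
    by_cases h1 : x = 1
    · subst h1
      rw [if_pos rfl, if_neg D.w_ne.symm, if_neg hwi1.symm, irr_apply_one_eq_deg]; ring
    rw [if_neg h1]
    by_cases h2 : x = w
    · subst h2
      rw [if_pos rfl, if_neg hne.symm, hw]; ring
    rw [if_neg h2]
    by_cases h3 : x = w⁻¹
    · subst h3
      rw [if_pos rfl, hwi]; ring
    rw [if_neg h3]
    have ho : orderOf x = 2 := by
      by_cases hz : x ∈ zpowers w
      · rcases D.zp_cases hz with e | e | e | e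
        · exact absurd e h1
        · exact absurd e h2
        · rw [e]; exact D.t_order
        · exact absurd e h3
      · exact D.refl_two hxS hz
    obtain ⟨c, hc⟩ := isConj_iff.1 (D.inv_conj ho)
    rw [← hc, hcl, ht]; ring
  have m1 : (1 : G) ∈ T := Finset.mem_filter.2 ⟨Finset.mem_univ _, one_mem _⟩
  have m2 : w ∈ T := Finset.mem_filter.2 ⟨Finset.mem_univ _, D.wmem⟩
  have m3 : w⁻¹ ∈ T := Finset.mem_filter.2 ⟨Finset.mem_univ _, inv_mem D.wmem⟩
  rw [Finset.sum_congr rfl hval, Finset.sum_add_distrib, Finset.sum_add_distrib, Finset.sum_add_distrib,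
    Finset.sum_ite_eq', Finset.sum_ite_eq', Finset.sum_ite_eq', if_pos m1, if_pos m2, if_pos m3,
    Finset.sum_const, hTc, D.card_S, nsmul_eq_mul] at hm
  refine ⟨m, ?_⟩
  apply Int.cast_injective (α := ℂ)
  push_cast at hm ⊢
  linear_combination hm

end Data

namespace Core

variable {S : Sylow 2 G} {w s : G} {W : Subgroup G} (D : Core S w s W)
include D

theorem card_t : Nat.card (centralizer ({w * w} : Set G)) =
    8 * (Nat.card ↥(W ⊓ centralizer ({s} : Set G)) *
      Nat.card ↥(W ⊓ centralizer ({w * s} : Set G))) := by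
  rw [D.card, D.card_AB]

/-- The degrees of the three nontrivial characters with odd values at `w`, up to sign. -/
theorem degrees : ∃ F U V : ℤ, F % 8 = 1 ∧ F ≠ 1 ∧ U % 8 = 3 ∧ V % 8 = 3 ∧ U + V = -(1 + F) ∧
    (Nat.card G : ℤ) * (F - 1) ^ 2 = 64 * (Nat.card ↥(W ⊓ centralizer ({s} : Set G)) : ℤ) *
      (Nat.card ↥(W ⊓ centralizer ({w * s} : Set G)) : ℤ) * F * (F + 1) *
      ((Nat.card ↥(W ⊓ centralizer ({s} : Set G)) : ℤ) +
        (Nat.card ↥(W ⊓ centralizer ({w * s} : Set G)) : ℤ)) ^ 2 ∧
    (Nat.card G : ℤ) * (F + 1) * (U * V - F) =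
      256 * (Nat.card ↥(W ⊓ centralizer ({s} : Set G)) : ℤ) ^ 2 *
        (Nat.card ↥(W ⊓ centralizer ({w * s} : Set G)) : ℤ) ^ 2 * F * U * V := by
  classical
  haveI : Fintype G := Fintype.ofFinite G
  haveI : Fact (Nat.Prime 2) := ⟨Nat.prime_two⟩
  obtain ⟨M, hM⟩ := exists_isPModular Nat.prime_two
  have d := D.toData.dihedral
  have hI : IsPrimitiveRoot Complex.I (2 ^ 2) := by
    refine IsPrimitiveRoot.mk_of_lt _ (by norm_num) (by simp) fun l hl hl' => ?_
    norm_num at hl'
    interval_cases l <;> norm_num [pow_succ, Complex.ext_iff]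
  obtain ⟨x, u, v, y, σ, su, sv, hσ, hsu, hsv, h1x, h1u, h1v, hxu, hxv, huv, hy, -, hcov, hvals, hreg⟩ :=
    d.principal_block hM hI
  have hIco : Finset.Ico 1 (2 ^ (2 - 1)) = ({1} : Finset ℕ) := by decide
  have e1 : (2 : ℕ) ^ (2 - 1) = 2 := by norm_num
  set a := Nat.card ↥(W ⊓ centralizer ({s} : Set G)) with ha
  set b := Nat.card ↥(W ⊓ centralizer ({w * s} : Set G)) with hb
  -- values
  obtain ⟨x1, u1, v1, y1⟩ := hvals 1 one_pos (by norm_num)
  obtain ⟨x2, u2, v2, -⟩ := hvals 2 two_pos (by norm_num)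
  rw [pow_one] at x1 u1 v1 y1
  rw [pow_two] at x2 u2 v2
  simp only [pow_one, mul_neg_one, neg_one_sq, mul_one] at u1 v1 u2 v2
  -- the congruences
  have hcx := D.toData.congr x (δ := -σ) (ε := -σ) (by rw [x2]; push_cast; ring) (by rw [x1]; push_cast; ring)
  have hcu := D.toData.congr u (δ := su) (ε := -su) (by rw [u2]) (by rw [u1]; push_cast; ring)
  have hcv := D.toData.congr v (δ := sv) (ε := -sv) (by rw [v2]) (by rw [v1]; push_cast; ring)
  -- the degree relation
  have hsum := (hreg 1 (by rw [orderOf_one]; norm_num)).1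
  rw [irr_apply_one_eq_deg, irr_apply_one_eq_deg, irr_apply_one_eq_deg] at hsum
  set fx := deg (x : G → ℂ) with hfx
  set fu := deg (u : G → ℂ) with hfu
  set fv := deg (v : G → ℂ) with hfv
  have hsum' : su * (fu : ℤ) + sv * fv = 1 - σ * fx := by exact_mod_cast hsum
  have hx' : x ∈ principalBlock M G := by
    have hx' : x ∈ Finset.univ.filter (· ∈ principalBlock M G) := by rw [hcov]; simp
    exact (Finset.mem_filter.1 hx').2
  refine ⟨-σ * fx, -su * fu, -sv * fv, ?_, ?_, ?_, ?_, ?_, ?_, ?_⟩
  · rcases hσ with e | e <;> subst e <;> omega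
  · intro h
    have h1 : (fx : ℤ) = 1 := by
      have := deg_irr_pos x
      rcases hσ with e | e <;> subst e <;> omega
    rcases hσ with e | e <;> subst e
    · omega
    · obtain ⟨h5, -⟩ := d.order_formula hM (by rw [e1, pow_two]; exact D.toData.inv_conj D.hs)
        (by rw [e1, pow_two]; exact D.toData.inv_conj D.toData.ws_order)
        (χ₁ := x) (δ := 1) hx' h1x.symm (Or.inl rfl) (fun l hl hl' => by
          rw [(hvals l hl hl').1]; norm_num)
      · exact h5 (by rw [show deg (x : G → ℂ) = 1 by omega]; norm_num)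
  · rcases hsu with e | e <;> subst e <;> omega
  · rcases hsv with e | e <;> subst e <;> omega
  · linarith
  · -- the order formula
    obtain ⟨-, h⟩ := d.order_formula hM (by rw [e1, pow_two]; exact D.toData.inv_conj D.hs)
      (by rw [e1, pow_two]; exact D.toData.inv_conj D.toData.ws_order)
      (χ₁ := x) (δ := -σ) hx' h1x.symm (by rcases hσ with e | e <;> subst e <;> simp)
      (fun l hl hl' => by rw [(hvals l hl hl').1]; push_cast; ring)
    rw [e1, pow_two w, D.card_t, D.card_cent_pair, D.swap.card_cent_pair, ← ha, ← hb, ← hfx] at h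
    have ha0 : (a : ℂ) ≠ 0 := Nat.cast_ne_zero.2 Nat.card_pos.ne'
    have hb0 : (b : ℂ) ≠ 0 := Nat.cast_ne_zero.2 Nat.card_pos.ne'
    push_cast at h
    field_simp at h
    apply Int.cast_injective (α := ℂ)
    push_cast
    rcases hσ with e | e <;> subst e <;> push_cast at h ⊢ <;> linear_combination h / 16
  · -- the pairs with product `w`
    have hK : (Nat.card {g : G // IsConj (w * w) g} : ℂ) * (8 * (a * b)) = Nat.card G := by
      have := card_isConj_mul (w * w)
      rw [D.card_t, ← ha, ← hb] at this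
      exact_mod_cast this
    have h4 := class_mult_formula (w * w) (w * w) w
    rw [D.toData.pairs] at h4
    have hI4 : ∀ ψ : IrrCharacter G, ψ ∉ ({principal G, x, u, v} : Finset _) → (ψ : G → ℂ) w = 0 := by
      intro ψ hψ
      have h := second_orthogonality w w
      rw [if_pos (IsConj.refl w), D.toData.cent_w] at h
      have hR : ∑ χ : IrrCharacter G, Complex.normSq ((χ : G → ℂ) w) = 4 := by
        have h' := congrArg Complex.re h
        simp only [Complex.mul_conj, Complex.re_sum, Complex.ofReal_re, Nat.cast_ofNat] at h'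
        simpa using h'
      have hF : ∀ χ ∈ ({principal G, x, u, v} : Finset (IrrCharacter G)),
          Complex.normSq ((χ : G → ℂ) w) = 1 := by
        intro χ hχ
        simp only [Finset.mem_insert, Finset.mem_singleton] at hχ
        rcases hχ with rfl | rfl | rfl | rfl
        · simp [show ((principal G : IrrCharacter G) : G → ℂ) w = 1 from rfl]
        · rw [x1]; rcases hσ with e | e <;> subst e <;> simp
        · rw [u1]; rcases hsu with e | e <;> subst e <;> simp
        · rw [v1]; rcases hsv with e | e <;> subst e <;> simp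
      have h5 := Finset.sum_le_sum_of_subset_of_nonneg
        (Finset.subset_univ (insert ψ ({principal G, x, u, v} : Finset _)))
        (f := fun χ : IrrCharacter G => Complex.normSq ((χ : G → ℂ) w))
        (fun χ _ _ => Complex.normSq_nonneg _)
      rw [hR, Finset.sum_insert hψ, Finset.sum_congr rfl hF, Finset.sum_const,
        Finset.card_eq_four.2 ⟨principal G, x, u, v, h1x, h1u, h1v, hxu, hxv, huv, rfl⟩] at h5
      exact Complex.normSq_eq_zero.1 (le_antisymm (by simpa using h5) (Complex.normSq_nonneg _))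
    rw [← Finset.sum_subset (Finset.subset_univ ({principal G, x, u, v} : Finset (IrrCharacter G)))
      (fun ψ _ hψ => by rw [hI4 ψ hψ, map_zero, mul_zero, zero_div]),
      Finset.sum_insert (by simp [h1x, h1u, h1v]), Finset.sum_insert (by simp [hxu, hxv]),
      Finset.sum_pair huv, irr_apply_one_eq_deg x, irr_apply_one_eq_deg u, irr_apply_one_eq_deg v,
      x1, x2, u1, u2, v1, v2, ← hfx, ← hfu, ← hfv] at h4
    simp only [show ∀ g, ((principal G : IrrCharacter G) : G → ℂ) g = 1 from fun _ => rfl, map_neg,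
      map_intCast, map_one] at h4
    have ha0 : (a : ℂ) ≠ 0 := Nat.cast_ne_zero.2 Nat.card_pos.ne'
    have hb0 : (b : ℂ) ≠ 0 := Nat.cast_ne_zero.2 Nat.card_pos.ne'
    have hx0 : (fx : ℂ) ≠ 0 := Nat.cast_ne_zero.2 (deg_irr_pos x).ne'
    have hu0 : (fu : ℂ) ≠ 0 := Nat.cast_ne_zero.2 (deg_irr_pos u).ne'
    have hv0 : (fv : ℂ) ≠ 0 := Nat.cast_ne_zero.2 (deg_irr_pos v).ne'
    have hG0 : (Nat.card G : ℂ) ≠ 0 := Nat.cast_ne_zero.2 Nat.card_pos.ne'
    have hKe : (Nat.card {g : G // IsConj (w * w) g} : ℂ) = (Nat.card G : ℂ) / (8 * (a * b)) := by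
      rw [← hK]; field_simp
    rw [hKe] at h4
    field_simp at h4
    apply Int.cast_injective (α := ℂ)
    push_cast
    rcases hσ with e | e <;> subst e <;> rcases hsu with e | e <;> subst e <;>
      rcases hsv with e | e <;> subst e <;> push_cast at hsum h4 ⊢ <;>
      first
        | linear_combination h4 + (Nat.card G : ℂ) * fx * hsum
        | linear_combination h4 - (Nat.card G : ℂ) * fx * hsum
        | linear_combination -h4 + (Nat.card G : ℂ) * fx * hsum
        | linear_combination -h4 - (Nat.card G : ℂ) * fx * hsum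

end Core

end Cfsg.Lib.SelfCentFour
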